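import Cfsg.Agent.Mrg.Omega.ML.Ex.Typ.List
import Cfsg.Agent.Mrg.KFacts.RgdPerf
import Cfsg.Agent.Mrg.Omega.EH3.Kf.TwWitt
import Cfsg.Agent.Mrg.Nodes.RGDAllP


/-!
# The row `lie2`: data of the orthogonal groups of minus type (helper949)

`G ≃ PΩ⁻_{2m}(q)`, `q` even, `m ≥ 4`: a root group datum of type `B_{m-1}` with generation, `CommGen` (the non-simple
positive root groups lie in `[U, U]`), and the orders `q`, `q²` of the root groups.
-/

set_option autoImplicit false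

namespace Cfsg.Agent.Omega.ML.Ex.Lie2.DatOmm

open Cfsg
open CoxeterSystem Cfsg.Agent.ChevalleyStructure.CoxeterGeom Cfsg.Agent.Tits.Roots Cfsg.Agent.Tits.Core
  Cfsg.Agent.Nodes.Comb Cfsg.Agent.Nodes.Reps Cfsg.Agent.Nodes.BNOf Cfsg.Agent.Nodes.RGDLib
open Cfsg.Agent.Omega.EH3.Kf.Lev (CommGen)

/-- a root group datum of characteristic two and type `M`, with generation and `CommGen` -/
def HasCG {l : ℕ} (M : CoxeterMatrix (Fin l)) (G : Type*) [Group G] : Prop :=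
  ∃ (A : Fin l → Fin l → ℤ) (h : IsCartan M A) (T : Subgroup G) (n : Fin l → G) (X : (Fin l → ℤ) → Subgroup G),
    Finite M.Group ∧ RGD M.toCoxeterSystem h 2 T n X ∧ G1 M.toCoxeterSystem h X = ⊤ ∧ CommGen M.toCoxeterSystem h X

theorem HasCG.of_equiv {l : ℕ} {M : CoxeterMatrix (Fin l)} {G H : Type*} [Group G] [Group H] (e : G ≃* H)
    (hG : HasCG M G) : HasCG M H := by
  obtain ⟨A, h, T, n, X, hW, R, hX, hC⟩ := hG
  refine ⟨A, h, T.map e.toMonoidHom, fun i => e (n i), fun x => (X x).map e.toMonoidHom, hW,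
    rgd_map_of_injective R e.toMonoidHom e.injective, ?_, ?_⟩
  · have h1 : (G1 M.toCoxeterSystem h X).map e.toMonoidHom =
        G1 M.toCoxeterSystem h (fun x => (X x).map e.toMonoidHom) := by
      unfold G1 RGD.Sup
      rw [Subgroup.map_iSup]
    rw [← h1, hX, Subgroup.map_top_of_surjective _ e.surjective]
  · intro r hr h0 hs
    have h1 : (RGD.Sup X (RGD.Pos M.toCoxeterSystem h)).map e.toMonoidHom =
        RGD.Sup (fun x => (X x).map e.toMonoidHom) (RGD.Pos M.toCoxeterSystem h) := by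
      unfold RGD.Sup
      rw [Subgroup.map_iSup]
    rw [← h1, ← Subgroup.map_commutator]
    exact Subgroup.map_mono (hC r hr h0 hs)

section Orthogonal

open QuadraticMap
open Cfsg.Agent.LieClassical Cfsg.Agent.LieClassical.OrthCore Cfsg.Agent.LieClassical.OrthTrans
open Cfsg.Agent.LieClassical.OrthSimple Cfsg.Agent.LieClassical.OrthFinite
open Cfsg.Agent.LieClassical.OrthForms
open Cfsg.Agent.TitsThree.KSideO Cfsg.Agent.TitsThree.StdData
open Cfsg.Agent.Nodes Cfsg.Agent.Nodes.WittAll Cfsg.Agent.Nodes.WittU Cfsg.Agent.Nodes.WittInst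
  Cfsg.Agent.TitsThree.Siegel Cfsg.Agent.TitsThree.SiegelGen
  Cfsg.Agent.TitsThree.WittFrame Cfsg.Agent.TitsThree.WBridge Cfsg.Agent.TitsThree.WittWeyl
  Cfsg.Agent.TitsThree.FrameCN

variable {F : Type*} [Field F] {m : ℕ}

/-- **`PΩ⁻_{2m+2}(F)`, characteristic two.** -/
theorem cg_PO_minus [Finite F] [CharP F 2] {a b : F}
    (hab : ∀ z₁ z₂ : F, z₁ ^ 2 + a * z₁ * z₂ + b * z₂ ^ 2 = 0 → z₁ = 0 ∧ z₂ = 0) (hm : 2 ≤ m) :
    HasCG (CoxeterMatrix.B m) (Cfsg.POmega F (Cfsg.quadFormMinus m F a b)) := by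
  have : Fact (Nat.Prime 2) := ⟨Nat.prime_two⟩
  rw [← coe_minusForm]
  have hG : Good (minusForm m F a b) := by
    apply good_of_finite (nondeg_minusForm m F a b hab)
    rw [Module.finrank_fintype_fun_eq_card, Fintype.card_sum, Fintype.card_sum, Fintype.card_fin,
      Fintype.card_fin]
    omega
  have hp : ((embMinus m F a b hab).ngt ⟨(1, 0), -nf a b (1, 0), rfl⟩).c ≠ 0 := by
    change (1 : F)⁻¹ * (-nf a b (1, 0)) ≠ 0
    simp [nf]
  have hA : AmbT (toFrame (wminus m F a b hab)) 2 (E (minusForm m F a b)) :=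
    EH3.Kf.OMinusBd.ambT a b hab hm hG
  refine ⟨TypeC.A m, TypeC.isCartan m, _, _, _, TypeC.finite_W (CoxeterMatrix.B m).toCoxeterSystem,
    rgdC_model (model (wminus m F a b hab) hG ⟨_, hp⟩) hA hp _,
    WittModel.G1_eq_top (model (wminus m F a b hab) hG ⟨_, hp⟩) (by omega) _, ?_⟩
  intro r hr h0 hs
  exact (EH3.Kf.TwWitt.gd_of_surj (model (wminus m F a b hab) hG ⟨_, hp⟩)
    (EH3.Kf.OMinusBd.exists_h_minus a b hab)).gen _ hr h0 hs

end Orthogonal

/-- **The orthogonal groups of minus type.** -/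
theorem cg_of_minus {G : Type*} [Group G] (hG : IsPOmegaMinusChar 2 G) :
    ∃ l, 3 ≤ l ∧ HasCG (CoxeterMatrix.B l) G := by
  obtain ⟨F, _, _, _, m, a, b, hm, hab, ⟨e⟩⟩ := hG
  exact ⟨m - 1, by omega, (cg_PO_minus hab (by omega)).of_equiv e.symm⟩

end Cfsg.Agent.Omega.ML.Ex.Lie2.DatOmm
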