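import Cfsg.Agent.Mrg.Omega.ML.Ex.Lie2.Def
import Cfsg.Agent.Mrg.Omega.ML.Ex.Lie2.DatOmm
import Cfsg.Agent.Mrg.Omega.EH3.Kf.InL
import Cfsg.Agent.KFacts.RgdRigid
import Cfsg.Agent.Mrg.Omega.ML.Ex.Typ.List

section


/-!
# The Lie(2) row: data of the families, transport (helper993)

* `Rg.map`, `Dt.map` : transport along isomorphisms;
* `Dt h Tor n Xr pf` : `CommGen` and perfect nodes;  `HasDt Mx pf G`, `HasDt.of_equiv`, `HasCG.dt`;
* `Rg.exists_rf` : the datum can be conjugated such that `U = T ⊓ K`;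
* **`HasDt.exists_rf`**.
-/

set_option autoImplicit false
set_option linter.unusedSectionVars false

namespace Cfsg.Agent.Omega.ML.Ex.Lie2

open Subgroup CoxeterSystem Cfsg.Agent.ChevalleyStructure.CoxeterGeom Cfsg.Agent.Tits.Roots Cfsg.Agent.Tits.Core
  Cfsg.Agent.Tits.Exchange Cfsg.Agent.Nodes.Reps Cfsg.Agent.Nodes.BNOf Cfsg.Agent.Nodes.StabComb
  Cfsg.Agent.Nodes.Bruhat Cfsg.Agent.Nodes.RGDLib Cfsg.Agent.Omega.EH3.Kf.Lev
open scoped commutatorElement

universe u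

section map

variable {Y Y' : Type*} [Group Y] [Group Y'] {l : ℕ} {Mx : CoxeterMatrix (Fin l)} {Ac : Fin l → Fin l → ℤ}
  {h : IsCartan Mx Ac} {Tor : Subgroup Y} {n : Fin l → Y} {Xr : (Fin l → ℤ) → Subgroup Y}

theorem Sup_map (f : Y →* Y') (S : Set (Fin l → ℤ)) :
    RGD.Sup (fun x => (Xr x).map f) S = (RGD.Sup Xr S).map f := by
  unfold RGD.Sup
  rw [Subgroup.map_iSup]

theorem Rg.map (R : Rg h Tor n Xr) (e : Y ≃* Y') :
    Rg h (Tor.map e.toMonoidHom) (fun i => e (n i)) (fun x => (Xr x).map e.toMonoidHom) where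
  fin := R.fin
  rgd := rgd_map_of_injective R.rgd e.toMonoidHom e.injective
  gen := by rw [Sup_map, R.gen, Subgroup.map_top_of_surjective _ e.surjective]

/-- the data of a group: `CommGen` and perfect nodes -/
structure Dt {Y : Type*} [Group Y] {l : ℕ} {Mx : CoxeterMatrix (Fin l)} {Ac : Fin l → Fin l → ℤ}
    (h : IsCartan Mx Ac) (Tor : Subgroup Y) (n : Fin l → Y) (Xr : (Fin l → ℤ) → Subgroup Y) (pf : Fin l → Prop) :
    Prop extends Rg h Tor n Xr where
  comm : CommGen Mx.toCoxeterSystem h Xr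
  perf : ∀ i, pf i → Xr (sr i) ≤ ⁅Li Xr i, Li Xr i⁆

theorem Dt.map {pf : Fin l → Prop} (D : Dt h Tor n Xr pf) (e : Y ≃* Y') :
    Dt h (Tor.map e.toMonoidHom) (fun i => e (n i)) (fun x => (Xr x).map e.toMonoidHom) pf where
  toRg := D.toRg.map e
  comm := by
    intro r hr h0 hs
    rw [Sup_map, ← Subgroup.map_commutator]
    exact Subgroup.map_mono (D.comm r hr h0 hs)
  perf := by
    intro i hi
    have h1 : Li (fun x => (Xr x).map e.toMonoidHom) i = (Li Xr i).map e.toMonoidHom :=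
      (Subgroup.map_sup _ _ _).symm
    rw [h1, ← Subgroup.map_commutator]
    exact Subgroup.map_mono (D.perf i hi)

end map

/-- a group with data of type `Mx` -/
def HasDt {l : ℕ} (Mx : CoxeterMatrix (Fin l)) (pf : Fin l → Prop) (G : Type*) [Group G] : Prop :=
  ∃ (Ac : Fin l → Fin l → ℤ) (h : IsCartan Mx Ac) (Tor : Subgroup G) (n : Fin l → G)
    (Xr : (Fin l → ℤ) → Subgroup G), Dt h Tor n Xr pf

theorem HasDt.of_equiv {l : ℕ} {Mx : CoxeterMatrix (Fin l)} {pf : Fin l → Prop} {G H : Type*} [Group G] [Group H]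
    (e : G ≃* H) (hG : HasDt Mx pf G) : HasDt Mx pf H := by
  obtain ⟨Ac, h, Tor, n, Xr, D⟩ := hG
  exact ⟨Ac, h, _, _, _, D.map e⟩

theorem HasDt.mono {l : ℕ} {Mx : CoxeterMatrix (Fin l)} {pf pf' : Fin l → Prop} {G : Type*} [Group G]
    (hG : HasDt Mx pf G) (hp : ∀ i, pf' i → pf i) : HasDt Mx pf' G := by
  obtain ⟨Ac, h, Tor, n, Xr, D⟩ := hG
  exact ⟨Ac, h, Tor, n, Xr, { toRg := D.toRg, comm := D.comm, perf := fun i hi => D.perf i (hp i hi) }⟩

theorem HasCG.dt {l : ℕ} {Mx : CoxeterMatrix (Fin l)} {G : Type*} [Group G] (hG : DatOmm.HasCG Mx G) :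
    HasDt Mx (fun _ => False) G := by
  obtain ⟨Ac, h, T, n, X, hW, R, hX, hC⟩ := hG
  exact ⟨Ac, h, T, n, X, { fin := hW, rgd := R, gen := hX, comm := hC, perf := fun _ hi => hi.elim }⟩

/-- a group with a root group datum of type `Mx`, the orders of the simple root groups satisfy `P` -/
def HasRc {l : ℕ} (Mx : CoxeterMatrix (Fin l)) (P : (Fin l → ℕ) → Prop) (G : Type*) [Group G] : Prop :=
  ∃ (Ac : Fin l → Fin l → ℤ) (h : IsCartan Mx Ac) (Tor : Subgroup G) (n : Fin l → G)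
    (Xr : (Fin l → ℤ) → Subgroup G), Rg h Tor n Xr ∧ P fun i => Nat.card (Xr (sr i))

theorem HasRc.of_equiv {l : ℕ} {Mx : CoxeterMatrix (Fin l)} {P : (Fin l → ℕ) → Prop} {G H : Type*} [Group G] [Group H]
    (e : G ≃* H) (hG : HasRc Mx P G) : HasRc Mx P H := by
  obtain ⟨Ac, h, Tor, n, Xr, D, hP⟩ := hG
  refine ⟨Ac, h, _, _, _, D.map e, ?_⟩
  have h1 : (fun i => Nat.card ((Xr (sr i)).map e.toMonoidHom)) = fun i => Nat.card (Xr (sr i)) :=
    funext fun i => Subgroup.card_map_of_injective e.injective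
  show P fun i => Nat.card ((Xr (sr i)).map e.toMonoidHom)
  rw [h1]
  exact hP

/-- a group with data of type `Mx`, and the orders of the simple root groups satisfy `P` -/
def HasDc {l : ℕ} (Mx : CoxeterMatrix (Fin l)) (pf : Fin l → Prop) (P : (Fin l → ℕ) → Prop) (G : Type*) [Group G] :
    Prop :=
  ∃ (Ac : Fin l → Fin l → ℤ) (h : IsCartan Mx Ac) (Tor : Subgroup G) (n : Fin l → G)
    (Xr : (Fin l → ℤ) → Subgroup G), Dt h Tor n Xr pf ∧ P fun i => Nat.card (Xr (sr i))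

theorem HasDc.of_equiv {l : ℕ} {Mx : CoxeterMatrix (Fin l)} {pf : Fin l → Prop} {P : (Fin l → ℕ) → Prop}
    {G H : Type*} [Group G] [Group H] (e : G ≃* H) (hG : HasDc Mx pf P G) : HasDc Mx pf P H := by
  obtain ⟨Ac, h, Tor, n, Xr, D, hP⟩ := hG
  refine ⟨Ac, h, _, _, _, D.map e, ?_⟩
  have h1 : (fun i => Nat.card ((Xr (sr i)).map e.toMonoidHom)) = fun i => Nat.card (Xr (sr i)) :=
    funext fun i => Subgroup.card_map_of_injective e.injective
  show P fun i => Nat.card ((Xr (sr i)).map e.toMonoidHom)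
  rw [h1]
  exact hP

/-- the number of the elements `u` of `S` with `u ^ 2 = 1` -/
noncomputable def inv2 {G : Type*} [Group G] (S : Subgroup G) : ℕ := Nat.card {u : G // u ∈ S ∧ u * u = 1}

theorem inv2_map {G H : Type*} [Group G] [Group H] (e : G ≃* H) (S : Subgroup G) :
    inv2 (S.map e.toMonoidHom) = inv2 S := by
  refine Nat.card_congr ⟨fun u => ⟨e.symm u.1, ?_, ?_⟩, fun u => ⟨e u.1, ?_, ?_⟩, fun u => ?_, fun u => ?_⟩
  · obtain ⟨y, hy, h1⟩ := u.2.1
    rw [← h1]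
    change e.symm (e y) ∈ S
    rwa [e.symm_apply_apply]
  · rw [← map_mul, u.2.2, map_one]
  · exact ⟨u.1, u.2.1, rfl⟩
  · rw [← map_mul, u.2.2, map_one]
  · exact Subtype.ext (e.apply_symm_apply _)
  · exact Subtype.ext (e.symm_apply_apply _)

theorem inv2_le {G : Type*} [Group G] [Finite G] (S : Subgroup G) : inv2 S ≤ Nat.card S :=
  Nat.card_le_card_of_injective (fun u : {u : G // u ∈ S ∧ u * u = 1} => (⟨u.1, u.2.1⟩ : S)) fun _ _ h =>
    Subtype.ext (congrArg (fun z : S => (z : G)) h)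

/-- a group with data of type `Mx`, and the numbers `inv2` of the simple root groups satisfy `P` -/
def HasDi {l : ℕ} (Mx : CoxeterMatrix (Fin l)) (pf : Fin l → Prop) (P : (Fin l → ℕ) → Prop) (G : Type*) [Group G] :
    Prop :=
  ∃ (Ac : Fin l → Fin l → ℤ) (h : IsCartan Mx Ac) (Tor : Subgroup G) (n : Fin l → G)
    (Xr : (Fin l → ℤ) → Subgroup G), Dt h Tor n Xr pf ∧ P fun i => inv2 (Xr (sr i))

theorem HasDi.of_equiv {l : ℕ} {Mx : CoxeterMatrix (Fin l)} {pf : Fin l → Prop} {P : (Fin l → ℕ) → Prop}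
    {G H : Type*} [Group G] [Group H] (e : G ≃* H) (hG : HasDi Mx pf P G) : HasDi Mx pf P H := by
  obtain ⟨Ac, h, Tor, n, Xr, D, hP⟩ := hG
  refine ⟨Ac, h, _, _, _, D.map e, ?_⟩
  have h1 : (fun i => inv2 ((Xr (sr i)).map e.toMonoidHom)) = fun i => inv2 (Xr (sr i)) :=
    funext fun i => inv2_map e _
  show P fun i => inv2 ((Xr (sr i)).map e.toMonoidHom)
  rw [h1]
  exact hP

section conj

variable {X : Type u} [Group X] [Finite X] {K T : Subgroup X} {l : ℕ} {Mx : CoxeterMatrix (Fin l)}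
  {Ac : Fin l → Fin l → ℤ} {h : IsCartan Mx Ac} {Tor : Subgroup K} {n : Fin l → K}
  {Xr : (Fin l → ℤ) → Subgroup K}

/-- **Conjugation to a datum with `U = T ⊓ K`.** -/
theorem Rg.exists_rf (hK : K.Normal) (hT : IsPGroup 2 T) (hTi : ¬ 2 ∣ T.index) (R : Rg h Tor n Xr) :
    ∃ g : K, RF K T h (Tor.map (MulAut.conj g).toMonoidHom) (fun i => MulAut.conj g (n i))
      (fun x => (Xr x).map (MulAut.conj g).toMonoidHom) := by
  have := R.fin
  have : Fact (Nat.Prime 2) := ⟨Nat.prime_two⟩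
  obtain ⟨g, hg⟩ := EH3.Kf.RowOf.exists_syl R.rgd (KFacts.RgdRigid.GG_eq_top R.gen) (hT.toSylow hTi)
  refine ⟨g, { toRg := R.map (MulAut.conj g), syl := ?_ }⟩
  rw [Sup_map]
  ext x
  exact hg x

/-- **The data for `T`.** -/
theorem HasDt.exists_rf {pf : Fin l → Prop} (hK : K.Normal) (hT : IsPGroup 2 T) (hTi : ¬ 2 ∣ T.index)
    (hD : HasDt Mx pf K) : ∃ (Ac : Fin l → Fin l → ℤ) (h : IsCartan Mx Ac) (Tor : Subgroup K) (n : Fin l → K)
      (Xr : (Fin l → ℤ) → Subgroup K), RF K T h Tor n Xr ∧ Dt h Tor n Xr pf := by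
  obtain ⟨Ac, h, Tor, n, Xr, D⟩ := hD
  obtain ⟨g, hg⟩ := D.toRg.exists_rf hK hT hTi
  exact ⟨Ac, h, _, _, _, hg, D.map _⟩

/-- **The datum for `T`, with the orders of the simple root groups.** -/
theorem HasRc.exists_rf {P : (Fin l → ℕ) → Prop} (hK : K.Normal) (hT : IsPGroup 2 T) (hTi : ¬ 2 ∣ T.index)
    (hD : HasRc Mx P K) : ∃ (Ac : Fin l → Fin l → ℤ) (h : IsCartan Mx Ac) (Tor : Subgroup K) (n : Fin l → K)
      (Xr : (Fin l → ℤ) → Subgroup K), RF K T h Tor n Xr ∧ P fun i => Nat.card (Xr (sr i)) := by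
  obtain ⟨Ac, h, Tor, n, Xr, D, hP⟩ := hD
  obtain ⟨g, hg⟩ := D.exists_rf hK hT hTi
  refine ⟨Ac, h, _, _, _, hg, ?_⟩
  have h1 : (fun i => Nat.card ((Xr (sr i)).map (MulAut.conj g).toMonoidHom)) = fun i => Nat.card (Xr (sr i)) :=
    funext fun i => Subgroup.card_map_of_injective (MulAut.conj g).injective
  show P fun i => Nat.card ((Xr (sr i)).map (MulAut.conj g).toMonoidHom)
  rw [h1]
  exact hP

/-- **The data for `T`, with the orders of the simple root groups.** -/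
theorem HasDc.exists_rf {pf : Fin l → Prop} {P : (Fin l → ℕ) → Prop} (hK : K.Normal) (hT : IsPGroup 2 T)
    (hTi : ¬ 2 ∣ T.index) (hD : HasDc Mx pf P K) : ∃ (Ac : Fin l → Fin l → ℤ) (h : IsCartan Mx Ac)
      (Tor : Subgroup K) (n : Fin l → K) (Xr : (Fin l → ℤ) → Subgroup K), RF K T h Tor n Xr ∧ Dt h Tor n Xr pf ∧
        P fun i => Nat.card (Xr (sr i)) := by
  obtain ⟨Ac, h, Tor, n, Xr, D, hP⟩ := hD
  obtain ⟨g, hg⟩ := D.toRg.exists_rf hK hT hTi
  refine ⟨Ac, h, _, _, _, hg, D.map _, ?_⟩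
  have h1 : (fun i => Nat.card ((Xr (sr i)).map (MulAut.conj g).toMonoidHom)) = fun i => Nat.card (Xr (sr i)) :=
    funext fun i => Subgroup.card_map_of_injective (MulAut.conj g).injective
  show P fun i => Nat.card ((Xr (sr i)).map (MulAut.conj g).toMonoidHom)
  rw [h1]
  exact hP

/-- **The data for `T`, with the numbers `inv2` of the simple root groups.** -/
theorem HasDi.exists_rf {pf : Fin l → Prop} {P : (Fin l → ℕ) → Prop} (hK : K.Normal) (hT : IsPGroup 2 T)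
    (hTi : ¬ 2 ∣ T.index) (hD : HasDi Mx pf P K) : ∃ (Ac : Fin l → Fin l → ℤ) (h : IsCartan Mx Ac)
      (Tor : Subgroup K) (n : Fin l → K) (Xr : (Fin l → ℤ) → Subgroup K), RF K T h Tor n Xr ∧ Dt h Tor n Xr pf ∧
        P fun i => inv2 (Xr (sr i)) := by
  obtain ⟨Ac, h, Tor, n, Xr, D, hP⟩ := hD
  obtain ⟨g, hg⟩ := D.toRg.exists_rf hK hT hTi
  refine ⟨Ac, h, _, _, _, hg, D.map _, ?_⟩
  have h1 : (fun i => inv2 ((Xr (sr i)).map (MulAut.conj g).toMonoidHom)) = fun i => inv2 (Xr (sr i)) :=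
    funext fun i => inv2_map (MulAut.conj g) _
  show P fun i => inv2 ((Xr (sr i)).map (MulAut.conj g).toMonoidHom)
  rw [h1]
  exact hP

end conj

end Cfsg.Agent.Omega.ML.Ex.Lie2

end

section


/-!
# The Lie(2) row: the data of `F₄(q)`, `q ≥ 4` (helper333)

`CommGen` from the explicit commutator formula of the Chevalley groups: words with one term, and words with two terms
`x_a(t u) x_b(t u²)`, which are separated by `(t, u) ↦ (t c, u / c)`, `c ≠ 1`.

**`hasDt_F4 : 4 ≤ |F| → HasDt F₄ (fun _ => False) (chevF4.group F)`**.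
-/

set_option autoImplicit false
set_option linter.unusedSectionVars false

namespace Cfsg.Agent.Omega.ML.Ex.Lie2.DatF4

open Cfsg Cfsg.Lie
open Subgroup CoxeterSystem Cfsg.Agent.ChevalleyStructure.CoxeterGeom Cfsg.Agent.Tits.Roots Cfsg.Agent.Tits.Core
  Cfsg.Agent.Tits.Exchange Cfsg.Agent.Nodes.Reps Cfsg.Agent.Nodes.BNOf Cfsg.Agent.Nodes.StabComb
  Cfsg.Agent.Nodes.Bruhat Cfsg.Agent.Nodes.RGDLib Cfsg.Agent.Omega.EH3.Kf.Lev
open Cfsg.Agent.ChevalleyStructure Cfsg.Agent.ChevalleyStructure.Elts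
  Cfsg.Agent.ChevalleyStructure.RootVec Cfsg.Agent.ChevalleyStructure.RootVecTab
  Cfsg.Agent.ChevalleyStructure.NPerm Cfsg.Agent.ChevalleyStructure.CoxeterGeomTypes
open Cfsg.Agent.Nodes Cfsg.Agent.Nodes.RGDChev
open scoped commutatorElement

universe u

section terms

variable {D : ChevalleyDatum} {l : ℕ} {M : CoxeterMatrix (Fin l)} (hp : IsType D l M) {K : Type u} [Field K]

theorem sgn_mul {C : ℤ} (hC : C = 1 ∨ C = -1) : ((C : K)) * (C : K) = 1 := by
  rcases hC with rfl | rfl <;> simp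

include hp

/-- a word with one term -/
theorem one_term {r s q : ℕ} {C : ℤ} (hr : r < D.nroots) (hs : s < D.nroots) (hrs : s ≠ r) (hneg : s ≠ D.neg r)
    (h : D.commTerms r s = [(q, C, 1, 1)]) (hC : C = 1 ∨ C = -1) {H : Subgroup (GL D.Idx K)}
    (hr' : D.rootSubgroup K r ≤ H) (hs' : D.rootSubgroup K s ≤ H) : D.rootSubgroup K q ≤ ⁅H, H⁆ := by
  intro g hg
  rw [mem_rootSubgroup_iff hp.inList] at hg
  obtain ⟨v, rfl⟩ := hg
  have h1 := comm_xG hp hr hs hrs hneg (-1 : K) ((C : K) * v)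
  have h2 : D.commWord K r s (-1) ((C : K) * v) = [(q, v)] := by
    unfold ChevalleyDatum.commWord
    rw [h]
    simp only [List.map_cons, List.map_nil, pow_one]
    have e : (C : K) * - -1 * ((C : K) * v) = v := by
      rw [_root_.neg_neg, mul_one, ← mul_assoc, sgn_mul hC, one_mul]
    rw [e]
  rw [h2, wordG_cons, wordG_nil, mul_one] at h1
  rw [← h1]
  exact commutator_mem_commutator (inv_mem (hs' (xG_mem_rootSubgroup hp.inList s _)))
    (inv_mem (hr' (xG_mem_rootSubgroup hp.inList r _)))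

/-- the words with two terms -/
theorem word_mem {r s a b : ℕ} {C C' : ℤ} {i j : ℕ} (hr : r < D.nroots) (hs : s < D.nroots) (hrs : s ≠ r)
    (hneg : s ≠ D.neg r) (h : D.commTerms r s = [(a, C, 1, 1), (b, C', i, j)]) {H : Subgroup (GL D.Idx K)}
    (hr' : D.rootSubgroup K r ≤ H) (hs' : D.rootSubgroup K s ≤ H) (t u : K) :
    xG hp.inList a ((C : K) * (t * u)) * xG hp.inList b ((C' : K) * (t ^ i * u ^ j)) ∈ ⁅H, H⁆ := by
  have h1 := comm_xG hp hr hs hrs hneg (-t) u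
  have h2 : D.commWord K r s (-t) u = [(a, (C : K) * (t * u)), (b, (C' : K) * (t ^ i * u ^ j))] := by
    unfold ChevalleyDatum.commWord
    rw [h]
    simp only [List.map_cons, List.map_nil, pow_one, _root_.neg_neg, mul_assoc]
  rw [h2, wordG_cons, wordG_cons, wordG_nil, mul_one] at h1
  rw [← h1]
  exact commutator_mem_commutator (inv_mem (hs' (xG_mem_rootSubgroup hp.inList s _)))
    (inv_mem (hr' (xG_mem_rootSubgroup hp.inList r _)))

/-- two terms: the second one -/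
theorem two_term_b {r s a b : ℕ} {C C' : ℤ} {i j : ℕ} (hr : r < D.nroots) (hs : s < D.nroots) (hrs : s ≠ r)
    (hneg : s ≠ D.neg r) (h : D.commTerms r s = [(a, C, 1, 1), (b, C', i, j)]) (hC' : C' = 1 ∨ C' = -1)
    (hij : (i = 1 ∧ j = 2) ∨ (i = 2 ∧ j = 1)) (hK : ∃ c : K, c ≠ 0 ∧ c ≠ 1) {H : Subgroup (GL D.Idx K)}
    (hr' : D.rootSubgroup K r ≤ H) (hs' : D.rootSubgroup K s ≤ H) : D.rootSubgroup K b ≤ ⁅H, H⁆ := by
  obtain ⟨c, hc0, hc1⟩ := hK
  have hc2 : c - 1 ≠ 0 := sub_ne_zero.2 hc1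
  -- the difference of two words
  have key : ∀ t u t' u' : K, t * u = t' * u' →
      xG hp.inList b ((C' : K) * (t' ^ i * u' ^ j - t ^ i * u ^ j)) ∈ ⁅H, H⁆ := by
    intro t u t' u' e
    have h1 := word_mem hp hr hs hrs hneg h hr' hs' t u
    have h2 := word_mem hp hr hs hrs hneg h hr' hs' t' u'
    rw [← e] at h2
    have h3 := mul_mem (inv_mem h1) h2
    have e1 : (xG hp.inList a ((C : K) * (t * u)) * xG hp.inList b ((C' : K) * (t ^ i * u ^ j)))⁻¹ *
        (xG hp.inList a ((C : K) * (t * u)) * xG hp.inList b ((C' : K) * (t' ^ i * u' ^ j))) =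
        (xG hp.inList b ((C' : K) * (t ^ i * u ^ j)))⁻¹ * xG hp.inList b ((C' : K) * (t' ^ i * u' ^ j)) := by
      group
    rw [e1, xG_inv, xG_add] at h3
    have e2 : -((C' : K) * (t ^ i * u ^ j)) + (C' : K) * (t' ^ i * u' ^ j) =
        (C' : K) * (t' ^ i * u' ^ j - t ^ i * u ^ j) := by ring
    rwa [e2] at h3
  intro g hg
  rw [mem_rootSubgroup_iff hp.inList] at hg
  obtain ⟨v, rfl⟩ := hg
  have hCC := sgn_mul (K := K) hC'
  rcases hij with ⟨rfl, rfl⟩ | ⟨rfl, rfl⟩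
  · -- `t u²`
    have h1 := key ((C' : K) * v / (c - 1)) 1 ((C' : K) * v / (c - 1) / c) c (by field_simp)
    have e : (C' : K) * (((C' : K) * v / (c - 1) / c) ^ 1 * c ^ 2 - ((C' : K) * v / (c - 1)) ^ 1 * 1 ^ 2) = v := by
      have e1 : (C' : K) * (((C' : K) * v / (c - 1) / c) ^ 1 * c ^ 2 - ((C' : K) * v / (c - 1)) ^ 1 * 1 ^ 2) =
          ((C' : K) * (C' : K)) * v := by field_simp
      rw [e1, hCC, one_mul]
    rwa [e] at h1
  · have h1 := key 1 ((C' : K) * v / (c - 1)) c ((C' : K) * v / (c - 1) / c) (by field_simp)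
    have e : (C' : K) * (c ^ 2 * ((C' : K) * v / (c - 1) / c) ^ 1 - 1 ^ 2 * ((C' : K) * v / (c - 1)) ^ 1) = v := by
      have e1 : (C' : K) * (c ^ 2 * ((C' : K) * v / (c - 1) / c) ^ 1 - 1 ^ 2 * ((C' : K) * v / (c - 1)) ^ 1) =
          ((C' : K) * (C' : K)) * v := by field_simp
      rw [e1, hCC, one_mul]
    rwa [e] at h1

/-- two terms: the first one -/
theorem two_term_a {r s a b : ℕ} {C C' : ℤ} {i j : ℕ} (hr : r < D.nroots) (hs : s < D.nroots) (hrs : s ≠ r)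
    (hneg : s ≠ D.neg r) (h : D.commTerms r s = [(a, C, 1, 1), (b, C', i, j)]) (hC : C = 1 ∨ C = -1)
    (hC' : C' = 1 ∨ C' = -1) (hij : (i = 1 ∧ j = 2) ∨ (i = 2 ∧ j = 1)) (hK : ∃ c : K, c ≠ 0 ∧ c ≠ 1)
    {H : Subgroup (GL D.Idx K)} (hr' : D.rootSubgroup K r ≤ H) (hs' : D.rootSubgroup K s ≤ H) :
    D.rootSubgroup K a ≤ ⁅H, H⁆ := by
  intro g hg
  rw [mem_rootSubgroup_iff hp.inList] at hg
  obtain ⟨v, rfl⟩ := hg
  have h1 := word_mem hp hr hs hrs hneg h hr' hs' 1 ((C : K) * v)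
  rw [one_mul, ← mul_assoc, sgn_mul hC, one_mul] at h1
  have h2 := two_term_b hp hr hs hrs hneg h hC' hij hK hr' hs'
    (xG_mem_rootSubgroup hp.inList b ((C' : K) * ((1 : K) ^ i * ((C : K) * v) ^ j)))
  exact (mul_mem_cancel_right h2).1 h1

end terms

section table

/-- `X_q` is a factor of a commutator of `X_r` and `X_s` -/
def good (D : ChevalleyDatum) (q r s : ℕ) : Bool :=
  decide (s ≠ r) && decide (s ≠ D.neg r) &&
    match D.commTerms r s with
    | [(a, C, 1, 1)] => decide (a = q) && (decide (C = 1) || decide (C = -1))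
    | [(a, C, 1, 1), (b, C', i, j)] => (decide (a = q) || decide (b = q)) && (decide (C = 1) || decide (C = -1)) &&
        (decide (C' = 1) || decide (C' = -1)) &&
        ((decide (i = 1) && decide (j = 2)) || (decide (i = 2) && decide (j = 1)))
    | _ => false

variable {D : ChevalleyDatum} {l : ℕ} {M : CoxeterMatrix (Fin l)} (hp : IsType D l M) {K : Type u} [Field K]

include hp in
theorem le_of_good {q r s : ℕ} (hg : good D q r s = true) (hr : r < D.nroots) (hs : s < D.nroots)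
    (hK : ∃ c : K, c ≠ 0 ∧ c ≠ 1) {H : Subgroup (GL D.Idx K)} (hr' : D.rootSubgroup K r ≤ H)
    (hs' : D.rootSubgroup K s ≤ H) : D.rootSubgroup K q ≤ ⁅H, H⁆ := by
  unfold good at hg
  rw [Bool.and_eq_true, Bool.and_eq_true, decide_eq_true_eq, decide_eq_true_eq] at hg
  obtain ⟨⟨h1, h2⟩, h3⟩ := hg
  split at h3
  · rename_i a C he
    simp only [Bool.and_eq_true, Bool.or_eq_true, decide_eq_true_eq] at h3
    obtain ⟨rfl, h4⟩ := h3
    exact one_term hp hr hs h1 h2 he h4 hr' hs'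
  · rename_i a C b C' i j he
    simp only [Bool.and_eq_true, Bool.or_eq_true, decide_eq_true_eq] at h3
    obtain ⟨⟨⟨h4, h5⟩, h6⟩, h7⟩ := h3
    rcases h4 with rfl | rfl
    · exact two_term_a hp hr hs h1 h2 he h5 h6 h7 hK hr' hs'
    · exact two_term_b hp hr hs h1 h2 he h6 h7 hK hr' hs'
  · exact absurd h3 (by simp)

/-- the table for `F₄`: a pair for every non-simple positive root -/
def tab : ℕ → ℕ × ℕ
  | 26 => (24, 25)
  | 28 => (25, 27)
  | 29 => (24, 28)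
  | 30 => (25, 27)
  | 31 => (24, 30)
  | 32 => (24, 28)
  | 34 => (27, 33)
  | 35 => (25, 34)
  | 36 => (24, 35)
  | 37 => (27, 35)
  | 38 => (24, 37)
  | 39 => (25, 38)
  | 40 => (27, 39)
  | 41 => (25, 34)
  | 42 => (24, 41)
  | 43 => (24, 35)
  | 44 => (27, 43)
  | 45 => (24, 37)
  | 46 => (25, 45)
  | 47 => (24, 46)
  | _ => (0, 0)

theorem tab_F4 : ∀ q : Fin 48, (∀ i : Fin 4, 0 ≤ rt chevF4 q i) → (∀ i : Fin 4, (q : ℕ) ≠ chevF4.simple i) →
    (tab q).1 < 48 ∧ (tab q).2 < 48 ∧ (∀ i : Fin 4, 0 ≤ rt chevF4 (tab q).1 i) ∧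
      (∀ i : Fin 4, 0 ≤ rt chevF4 (tab q).2 i) ∧ good chevF4 q (tab q).1 (tab q).2 = true := by
  decide +kernel

theorem nroots_F4 : chevF4.nroots = 48 := by decide +kernel

theorem isType_F4 : IsType chevF4 4 CoxeterMatrix.F₄ := by simp [IsType, typeList]

end table

section comm

variable {K : Type u} [Field K]

/-- **`CommGen` for `F₄(q)`, `q ≥ 3`** -/
theorem commGen_F4 (hK : ∃ c : K, c ≠ 0 ∧ c ≠ 1) :
    CommGen CoxeterMatrix.F₄.toCoxeterSystem isType_F4.isCartan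
      (fun x => (XV chevF4 4 K x).subgroupOf (chevF4.group K)) := by
  have hp := isType_F4
  set cs := CoxeterMatrix.F₄.toCoxeterSystem with hcs
  set Xr : (Fin 4 → ℤ) → Subgroup ↥(chevF4.group K) := fun x => (XV chevF4 4 K x).subgroupOf (chevF4.group K) with hXr
  set U := RGD.Sup Xr (RGD.Pos cs hp.isCartan) with hU
  -- positive root groups are in the image of `U`
  have hpos : ∀ r, r < chevF4.nroots → (∀ i : Fin 4, 0 ≤ rt chevF4 r i) →
      chevF4.rootSubgroup K r ≤ U.map (chevF4.group K).subtype := by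
    intro r hr h0
    have h1 : Xr (vec chevF4 4 r) ≤ U := RGD.le_Sup ⟨isRoot_vec hp cs hr, fun i => h0 i⟩
    have h2 := Subgroup.map_mono (f := (chevF4.group K).subtype) h1
    rw [hXr] at h2
    simp only [Subgroup.subgroupOf_map_subtype] at h2
    rw [inf_eq_left.2 (XV_le_group hp _), XV_vec hp K hr] at h2
    exact h2
  intro x hx h0 hns
  obtain ⟨q, hq, rfl⟩ := (isRoot_iff hp cs x).1 hx
  have hq' : q < 48 := by rw [← nroots_F4]; exact hq
  obtain ⟨h1, h2, h3, h4, h5⟩ := tab_F4 ⟨q, hq'⟩ (fun i => h0 i) (fun i he => hns i (by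
    rw [← vec_simple hp i]
    exact congrArg (vec chevF4 4) he))
  have h1' : (tab q).1 < chevF4.nroots := by rw [nroots_F4]; exact h1
  have h2' : (tab q).2 < chevF4.nroots := by rw [nroots_F4]; exact h2
  have h6 := le_of_good hp h5 h1' h2' hK (hpos _ h1' h3) (hpos _ h2' h4)
  rintro ⟨g, hgG⟩ hg
  have h7 : g ∈ chevF4.rootSubgroup K q := by
    rw [← XV_vec hp K hq]
    exact hg
  have h8 := h6 h7
  rw [← Subgroup.map_commutator] at h8
  obtain ⟨y, hy, e⟩ := h8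
  have e1 : y = ⟨g, hgG⟩ := Subtype.ext e
  rw [← e1]
  exact hy

/-- **The data of `F₄(q)`, `q ≥ 4`.** -/
theorem hasDt_F4 (F : Type u) [Field F] [Fintype F] [CharP F 2] (hF : 4 ≤ Fintype.card F) :
    HasDt CoxeterMatrix.F₄ (fun _ => False) ↥(chevF4.group F) := by
  classical
  have hc : ∃ c : F, c ≠ 0 ∧ c ≠ 1 := by
    have h1 : ∃ c : F, c ∉ ({0, 1} : Finset F) := by
      by_contra hcon
      push Not at hcon
      have h2 : (Finset.univ : Finset F) ⊆ {0, 1} := fun c _ => hcon c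
      have h3 := Finset.card_le_card h2
      have h4 : ({0, 1} : Finset F).card ≤ 2 := Finset.card_le_two
      rw [Finset.card_univ] at h3
      omega
    obtain ⟨c, hc⟩ := h1
    rw [Finset.mem_insert, Finset.mem_singleton, not_or] at hc
    exact ⟨c, hc.1, hc.2⟩
  have : Fact (Nat.Prime 2) := ⟨Nat.prime_two⟩
  exact ⟨_, isType_F4.isCartan, _, _, _, {
    fin := finite_W isType_F4 CoxeterMatrix.F₄.toCoxeterSystem
    rgd := rgd (K := F) isType_F4 CoxeterMatrix.F₄.toCoxeterSystem 2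
    gen := G1_eq_top isType_F4 _
    comm := commGen_F4 hc
    perf := fun _ h => h.elim }⟩

end comm

end Cfsg.Agent.Omega.ML.Ex.Lie2.DatF4

end
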