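import Cfsg.Agent.Mrg.Omega.ML.Ex.Lie2.Dat
import Cfsg.Agent.Mrg.Omega.EH3.Kf.TwWitt
import Cfsg.Agent.Mrg.Omega.EH3.Kf.TwUni
import Cfsg.Agent.Mrg.Nodes.RGDAllP
import Cfsg.Agent.Mrg.KFacts.RgdPerf
import Cfsg.Agent.Mrg.Omega.Lie.End.ZeroLone
import Cfsg.Agent.Mrg.Omega.Lie.End.RowTable
import Cfsg.Agent.Mrg.Omega.ML.Ex.Typ.List
import Mathlib
import Cfsg.Agent.SplitTwo.HexDefs

section


/-!
# Data for the rows with perfect fixers: `PSU_N(q)`, `PSp_2m(q)` (helper613)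

* `le_comm_of_fp`, `le_comm_of_tr`, `le_comm_of_trNode` : `X_i ≤ ⁅L_i, L_i⁆`, `L_i = ⟨X_i, X_{-i}⟩`, from a torus element
  which acts without fixed points, resp. from a transitive torus;
* `dt_model` : the data of a Witt model;
* **`dt_PSU_even`, `dt_PSU_odd`, `dt_PSU`** : `PSU_N(q)`; **`dt_PSp`** : `PSp_2m(q)`, `q ≥ 4`.
-/

set_option autoImplicit false
set_option linter.unusedSectionVars false

namespace Cfsg.Agent.Omega.ML.Ex.Lie2

open CoxeterSystem Cfsg.Agent.ChevalleyStructure.CoxeterGeom Cfsg.Agent.Tits.Roots Cfsg.Agent.Nodes.TypeC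
open Cfsg.Agent.Nodes.Comb Cfsg.Agent.Nodes.Reps Cfsg.Agent.Nodes.WittRoot Cfsg.Agent.Nodes.BNOf
open Cfsg.Agent.Nodes Cfsg.Agent.Nodes.WittAll Cfsg.Agent.Nodes.WittU
open Cfsg.Agent.TitsThree Cfsg.Agent.TitsThree.Siegel Cfsg.Agent.TitsThree.SiegelGen Cfsg.Agent.TitsThree.WittFrame
  Cfsg.Agent.TitsThree.WBridge Cfsg.Agent.TitsThree.WittWeyl Cfsg.Agent.TitsThree.FrameCN
open Cfsg.Agent.Omega.Lie.End Cfsg.Agent.Omega.Lie.End.KWitt Cfsg.Agent.Omega.Lie.End.KWittRow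
open Cfsg.Agent.Omega.EH3.Kf
open scoped commutatorElement

/-! ### Perfect nodes -/

section perf

variable {Y : Type*} [Group Y]

/-- `P ≤ ⁅L, L⁆` if an element of `L` acts without fixed points on `P ≤ L` -/
theorem le_comm_of_fp {P L : Subgroup Y} [Finite P] {t : Y} (ht : t ∈ L) (hP : P ≤ L)
    (hn : ∀ x ∈ P, t * x * t⁻¹ ∈ P) (hf : ∀ x ∈ P, t * x * t⁻¹ = x → x = 1) : P ≤ ⁅L, L⁆ := by
  let f : P → P := fun x => ⟨t * x * t⁻¹ * (x : Y)⁻¹, mul_mem (hn x x.2) (inv_mem x.2)⟩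
  have hfi : Function.Injective f := by
    intro x y hxy
    have h1 : t * x * t⁻¹ * (x : Y)⁻¹ = t * y * t⁻¹ * (y : Y)⁻¹ := congrArg Subtype.val hxy
    have h2 : t * ((y : Y)⁻¹ * x) * t⁻¹ = (y : Y)⁻¹ * x := by
      have h3 : t * x * t⁻¹ = t * y * t⁻¹ * (y : Y)⁻¹ * x := by rw [← h1]; group
      calc t * ((y : Y)⁻¹ * x) * t⁻¹ = (t * y * t⁻¹)⁻¹ * (t * x * t⁻¹) := by group
        _ = (t * y * t⁻¹)⁻¹ * (t * y * t⁻¹ * (y : Y)⁻¹ * x) := by rw [h3]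
        _ = (y : Y)⁻¹ * x := by group
    have h3 := hf _ (mul_mem (inv_mem y.2) x.2) h2
    exact Subtype.ext (inv_mul_eq_one.1 h3).symm
  intro w hw
  obtain ⟨x, hx⟩ := (Finite.injective_iff_surjective.1 hfi) ⟨w, hw⟩
  have h1 : t * x * t⁻¹ * (x : Y)⁻¹ = w := congrArg Subtype.val hx
  rw [← h1]
  exact Subgroup.commutator_mem_commutator ht (hP x.2)

/-- `P ≤ ⁅L, L⁆` if `L` is transitive on the nontrivial elements of the group `P ≤ L` of exponent two -/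
theorem le_comm_of_tr {P L : Subgroup Y} (hP : P ≤ L) (h2 : ∀ u ∈ P, u * u = 1)
    (h3 : ∃ x ∈ P, ∃ y ∈ P, x ≠ 1 ∧ y ≠ 1 ∧ x ≠ y)
    (htr : ∀ u ∈ P, ∀ u' ∈ P, u ≠ 1 → u' ≠ 1 → ∃ t ∈ L, t * u * t⁻¹ = u') : P ≤ ⁅L, L⁆ := by
  obtain ⟨x, hx, y, hy, hx1, hy1, hxy⟩ := h3
  intro w hw
  obtain ⟨u, hu, hu1, huw⟩ : ∃ u ∈ P, u ≠ 1 ∧ u ≠ w := by
    by_cases h : x = w
    · exact ⟨y, hy, hy1, fun h' => hxy (h.trans h'.symm)⟩
    · exact ⟨x, hx, hx1, h⟩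
  have h4 : w * u ≠ 1 := by
    intro h5
    apply huw
    exact mul_right_cancel ((h2 u hu).trans h5.symm)
  obtain ⟨t, ht, e⟩ := htr u hu (w * u) (mul_mem hw hu) hu1 h4
  have h5 : w = ⁅t, u⁆ := by
    rw [commutatorElement_def, e]; group
  rw [h5]
  exact Subgroup.commutator_mem_commutator ht (hP hu)

variable {I : Type*} [DecidableEq I] {T : Subgroup Y} {n : I → Y} {X : (I → ℤ) → Subgroup Y} {i : I}

theorem le_comm_of_trNode (h : KTorus.TrNode T n X i) :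
    X (sr i) ≤ ⁅X (sr i) ⊔ X (-sr i), X (sr i) ⊔ X (-sr i)⁆ :=
  le_comm_of_tr le_sup_left h.sq h.two fun u hu u' hu' h1 h1' => by
    obtain ⟨t, ht, e⟩ := h.tr u hu u' hu' h1 h1'
    exact ⟨t, ht.2.1, e⟩

end perf

/-! ### Witt models -/

section model

variable {F : Type*} [Field F] {V : Type*} [AddCommGroup V] [Module F V] {H : HForm F V} {n : ℕ}
  {Fr : Frame H (Fin n)} {K : Type*} [Group K] (M : Model Fr K)

theorem commGen_model (G : TwC.Gd (WittModel.X M)) :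
    Lev.CommGen (CoxeterMatrix.B n).toCoxeterSystem (TypeC.isCartan n) (WittModel.X M) :=
  fun _ hr h0 hs => G.gen _ hr h0 hs

variable [CharP F 2] [Finite K] (hA : AmbT Fr 2 M.I)

include hA

/-- the nodes of type I -/
theorem node_one {i : Fin n} (hi : (i : ℕ) + 1 < n) {t : F} (ht0 : t ≠ 0) (ht1 : t ≠ 1) :
    WittModel.X M (sr i) ≤ ⁅Li (WittModel.X M) i, Li (WittModel.X M) i⁆ := by
  have hTL := mem_TL hA (hx_mem hA) (mono_hx hi ht0) (hx_mem_sup hi t)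
  refine le_comm_of_fp (t := M.φ ⟨hx Fr (i, true) (nx i) t, hx_mem hA⟩) hTL.2 le_sup_left ?_ ?_
  · intro x hx
    obtain ⟨s, rfl⟩ := (mem_X_one hi).1 hx
    exact (mem_X_one hi).2 ⟨_, phi_conj (hx_mem hA) _ (M.hX _ _ _) (hx_conj_X Fr (ne_nx hi) ht0 s)⟩
  · intro x hx1 hx2
    obtain ⟨s, rfl⟩ := (mem_X_one hi).1 hx1
    rw [phi_conj (hx_mem hA) _ (M.hX _ _ _) (hx_conj_X Fr (ne_nx hi) ht0 s)] at hx2
    have h1 := phi_inj_X (ne_nx hi) hx2
    apply X_eq_one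
    have h3 : (t * t - 1) * s = 0 := by
      rw [sub_mul, one_mul, ← pow_two, h1, sub_self]
    have h5 : t * t - 1 = (t - 1) * (t - 1) := by
      have : (2 : F) = 0 := CharTwo.two_eq_zero
      linear_combination (-1 + t) * this
    rw [h5] at h3
    exact (mul_eq_zero.1 h3).resolve_left (mul_ne_zero (sub_ne_zero.2 ht1) (sub_ne_zero.2 ht1))

/-- the last node -/
theorem node_two {j : Fin n} (hj : ¬ (j : ℕ) + 1 < n) {p0 : Fr.Adm} (hp0 : p0.c ≠ 0) {l : F} (hl0 : l ≠ 0)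
    (hl1 : l * H.σ l ≠ 1) : WittModel.X M (sr j) ≤ ⁅Li (WittModel.X M) j, Li (WittModel.X M) j⁆ := by
  have hσ : H.σ l ≠ 0 := by simpa using hl0
  have hc : (Frame.Adm.smul l p0 : Fr.Adm).c ≠ 0 := mul_ne_zero (mul_ne_zero hl0 hσ) hp0
  have hconj : ∀ r : Fr.Adm, hz Fr (j, true) (Frame.Adm.smul l p0) p0 * Fr.Z (j, true) r *
      (hz Fr (j, true) (Frame.Adm.smul l p0) p0)⁻¹ = Fr.Z (j, true) (Frame.Adm.smul (l * H.σ l) r) := by
    intro r
    rw [hz_conj_Z Fr hc hp0 r r (hz_smul_V0 Fr hl0 hp0 (Fr.ok_mem r.ok)) rfl]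
    congr 2
    rw [Frame.Adm.smul_c, map_mul, map_mul, map_mul, map_inv₀, H.σσ]
    have : H.σ p0.c ≠ 0 := by simpa using hp0
    field_simp
  have hTL := mem_TL hA (hz_mem hA) (mono_hz hj hc hp0) (hz_mem_sup hj (Frame.Adm.smul l p0) p0)
  refine le_comm_of_fp (t := M.φ ⟨hz Fr (j, true) (Frame.Adm.smul l p0) p0, hz_mem hA⟩) hTL.2 le_sup_left ?_ ?_
  · intro x hx
    obtain ⟨r, rfl⟩ := (mem_X_two hj).1 hx
    exact (mem_X_two hj).2 ⟨_, phi_conj (hz_mem hA) _ (M.hZ _ _) (hconj r)⟩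
  · intro x hx1 hx2
    obtain ⟨r, rfl⟩ := (mem_X_two hj).1 hx1
    rw [phi_conj (hz_mem hA) _ (M.hZ _ _) (hconj r)] at hx2
    have h1 := phi_inj_Z hx2
    apply Z_eq_one
    refine smul_eq_self hl1 ?_ h1
    rw [map_mul, H.σσ, mul_comm]

/-- **the data of a Witt model**, with visible root groups -/
theorem dtx_model [Finite V] (hn : 0 < n) {p0 : Fr.Adm} (hp0 : p0.c ≠ 0) (G : TwC.Gd (WittModel.X M))
    {t : F} (ht0 : t ≠ 0) (ht1 : t ≠ 1) {pf : Fin n → Prop}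
    (hpf : ∀ j, pf j → ¬ (j : ℕ) + 1 < n → ∃ l : F, l ≠ 0 ∧ l * H.σ l ≠ 1) :
    ∃ nn : Fin n → K, Dt (TypeC.isCartan n) (WittModel.T M) nn (WittModel.X M) pf := by
  have : Fact (Nat.Prime 2) := ⟨Nat.prime_two⟩
  refine ⟨_,
    { fin := TypeC.finite_W (CoxeterMatrix.B n).toCoxeterSystem
      rgd := rgdC_model M hA hp0 _
      gen := WittModel.G1_eq_top _ hn _
      comm := commGen_model M G
      perf := ?_ }⟩
  intro i hi
  by_cases h1 : (i : ℕ) + 1 < n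
  · exact node_one M hA h1 ht0 ht1
  · obtain ⟨l, hl0, hl1⟩ := hpf i hi h1
    exact node_two M hA h1 hp0 hl0 hl1

/-- **the data of a Witt model** -/
theorem dt_model [Finite V] (hn : 0 < n) {p0 : Fr.Adm} (hp0 : p0.c ≠ 0) (G : TwC.Gd (WittModel.X M))
    {t : F} (ht0 : t ≠ 0) (ht1 : t ≠ 1) {pf : Fin n → Prop}
    (hpf : ∀ j, pf j → ¬ (j : ℕ) + 1 < n → ∃ l : F, l ≠ 0 ∧ l * H.σ l ≠ 1) : HasDt (CoxeterMatrix.B n) pf K := by
  obtain ⟨nn, h⟩ := dtx_model M hA hn hp0 G ht0 ht1 hpf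
  exact ⟨_, _, _, nn, _, h⟩

end model

/-! ### Unitary groups -/

section Unitary

open Cfsg.Agent.TitsThree.KSideU Cfsg.Agent.TitsThree.KSideUDesc

variable {F : Type*} [Field F] [Fintype F] {q N : ℕ}

theorem exists_elt (hF : Fintype.card F = q ^ 2) (hq : 2 < q) : ∃ l : F, l ≠ 0 ∧ l * l ^ q ≠ 1 := by
  classical
  obtain ⟨g, hg⟩ := IsCyclic.exists_generator (α := Fˣ)
  refine ⟨g, g.ne_zero, fun h => ?_⟩
  have h1 : g ^ (q + 1) = 1 := by
    ext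
    rw [Units.val_pow_eq_pow_val, pow_succ, mul_comm, Units.val_one]
    exact h
  have h2 : orderOf g = q ^ 2 - 1 := by
    rw [orderOf_eq_card_of_forall_mem_zpowers hg, Nat.card_eq_fintype_card, Fintype.card_units, hF]
  have h3 := orderOf_dvd_of_pow_eq_one h1
  rw [h2] at h3
  have h4 := Nat.le_of_dvd (by omega) h3
  have h5 : 3 * q ≤ q ^ 2 := by rw [pow_two]; exact Nat.mul_le_mul_right _ hq
  omega

theorem exists_ne (hF : 2 < Fintype.card F) : ∃ t : F, t ≠ 0 ∧ t ≠ 1 := by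
  classical
  obtain ⟨t, ht⟩ := Fintype.exists_ne_of_one_lt_card (α := Fˣ) (by rw [Fintype.card_units]; omega) 1
  exact ⟨t, t.ne_zero, fun h => ht (Units.ext h)⟩

theorem two_lt [CharP F 2] (hF : Fintype.card F = q ^ 2) : 2 < Fintype.card F := by
  have h1 : 1 < Fintype.card F := Fintype.one_lt_card
  rw [hF] at h1 ⊢
  rcases Nat.lt_or_ge q 2 with h2 | h2
  · interval_cases q <;> simp at h1
  · have h5 : 2 * 2 ≤ q ^ 2 := by rw [pow_two]; exact Nat.mul_le_mul h2 h2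
    omega

/-- **`PSU_N(q)`, `N` even**: the datum of the model over any Witt frame without anisotropic part -/
theorem dtx_PSU_even [CharP F 2] {m : ℕ} (hF : Fintype.card F = q ^ 2) (hm : 0 < m) (hN : 3 ≤ N)
    (W : WFrame (PU hF N) m) (hW : W.V0 = ⊥) : ∃ nn : Fin m → PSU N F q,
      Dt (TypeC.isCartan m) (WittModel.T (KInstU.model hF hN W)) nn (WittModel.X (KInstU.model hF hN W))
        (fun i => (i : ℕ) + 1 < m ∨ 2 < q) := by
  have : Fact (Nat.Prime 2) := ⟨Nat.prime_two⟩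
  have : Finite (PSU N F q) := Quotient.finite _
  obtain ⟨p0, hp0, -⟩ := exists_adm hF W
  have hA : AmbT (toFrame W) 2 (KInstU.model hF hN W).I := AmbT.of_amb (amb_U hF W) 2
  obtain ⟨t, ht0, ht1⟩ := exists_ne (two_lt hF)
  refine dtx_model (KInstU.model hF hN W) hA hm hp0
    (TwWitt.gd_of_tr _ (TwUni.htr hF W hW) hp0) ht0 ht1 ?_
  rintro j (hj | hj) hj'
  · exact absurd hj hj'
  · exact exists_elt hF hj

/-- **`PSU_N(q)`, `N` odd**: the datum of the model over any Witt frame with anisotropic part `⟨d⟩` -/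
theorem dtx_PSU_odd [CharP F 2] {m : ℕ} (hF : Fintype.card F = q ^ 2) (hm : 0 < m) (hN : 3 ≤ N)
    (W : WFrame (PU hF N) m) {d : Fin N → F} (hd : hermForm N F q d d = 1) (hW : W.V0 = Submodule.span F {d}) :
    ∃ nn : Fin m → PSU N F q,
      Dt (TypeC.isCartan m) (WittModel.T (KInstU.model hF hN W)) nn (WittModel.X (KInstU.model hF hN W))
        (fun i => (i : ℕ) + 1 < m ∨ 2 < q) := by
  have : Fact (Nat.Prime 2) := ⟨Nat.prime_two⟩
  have : Finite (PSU N F q) := Quotient.finite _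
  obtain ⟨p0, hp0, -⟩ := exists_adm hF W
  have hA : AmbT (toFrame W) 2 (KInstU.model hF hN W).I := AmbT.of_amb (amb_U hF W) 2
  obtain ⟨t, ht0, ht1⟩ := exists_ne (two_lt hF)
  refine dtx_model (KInstU.model hF hN W) hA hm hp0
    (UOdd.gd _ ⟨d, ?_, UOdd.exists_ok hF W hW⟩) ht0 ht1 ?_
  · have h1 : (HU hF N).h d d = 1 := hd
    rw [h1]
    exact one_ne_zero
  rintro j (hj | hj) hj'
  · exact absurd hj hj'
  · exact exists_elt hF hj

/-- **`PSU_N(q)`, `N` even** -/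
theorem dt_PSU_even [CharP F 2] {m : ℕ} (hF : Fintype.card F = q ^ 2) (hm : 2 ≤ m) (hN : N = 2 * m) :
    HasDt (CoxeterMatrix.B m) (fun i => (i : ℕ) + 1 < m ∨ 2 < q) (PSU N F q) := by
  subst hN
  obtain ⟨W, hW⟩ := exists_wframe_even (N := 2 * m) hF rfl
  obtain ⟨nn, h⟩ := dtx_PSU_even hF (by omega) (by omega) W hW
  exact ⟨_, _, _, nn, _, h⟩

/-- **`PSU_N(q)`, `N` odd** -/
theorem dt_PSU_odd [CharP F 2] {m : ℕ} (hF : Fintype.card F = q ^ 2) (hm : 1 ≤ m) (hN : N = 2 * m + 1) :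
    HasDt (CoxeterMatrix.B m) (fun i => (i : ℕ) + 1 < m ∨ 2 < q) (PSU N F q) := by
  subst hN
  obtain ⟨W, d, hd, hW⟩ := exists_wframe_odd (N := 2 * m + 1) hF rfl
  obtain ⟨nn, h⟩ := dtx_PSU_odd hF (by omega) (by omega) W hd hW
  exact ⟨_, _, _, nn, _, h⟩

/-- **`PSU_N(q)`** -/
theorem dt_PSU [CharP F 2] (hF : Fintype.card F = q ^ 2) (hN : 4 ≤ N) :
    ∃ m, 2 ≤ m ∧ (N = 2 * m ∨ N = 2 * m + 1) ∧
      HasDt (CoxeterMatrix.B m) (fun i => (i : ℕ) + 1 < m ∨ 2 < q) (PSU N F q) := by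
  obtain ⟨m, hm⟩ : ∃ m, N = 2 * m ∨ N = 2 * m + 1 := ⟨N / 2, by omega⟩
  refine ⟨m, by omega, hm, ?_⟩
  rcases hm with hm | hm
  · exact dt_PSU_even hF (by omega) hm
  · exact dt_PSU_odd hF (by omega) hm

end Unitary

/-! ### Symplectic groups -/

section Symplectic

open SpIdent SpGen

/-- **`PSp_2m(q)`, `q > 2`**, with visible root groups -/
theorem dtx_PSp {F : Type*} [Field F] [Fintype F] [CharP F 2] (hF : 2 < Fintype.card F) {m : ℕ} (hm : 1 ≤ m) :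
    ∃ nn : Fin m → PSp m F, Dt (TypeC.isCartan m) (WittModel.T (KInstSp.model m F)) nn
      (WittModel.X (KInstSp.model m F)) (fun _ => True) := by
  have : Fact (Nat.Prime 2) := ⟨Nat.prime_two⟩
  have : Finite (PSp m F) := Quotient.finite _
  have hA : AmbT (frame m F) 2 (KInstSp.model m F).I := AmbT.of_amb amb_Sp 2
  obtain ⟨t, ht0, ht1⟩ := exists_ne hF
  have hw : ∀ p : (frame m F).Adm, p.w = 0 := fun p => (Submodule.mem_bot F).1 ((frame m F).ok_mem p.ok)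
  refine dtx_model (KInstSp.model m F) hA (by omega) (p0 := SpIdent.adm 1) one_ne_zero
    (TwWitt.gd_of_sp _ hw (fun _ => rfl) (fun c => ⟨SpIdent.adm c, rfl⟩) ht0 ht1) ht0 ht1 ?_
  intro j _ _
  refine ⟨t, ht0, fun h => ht1 ?_⟩
  have h1 : t * t = 1 := h
  have h5 : (t - 1) * (t - 1) = 0 := by
    have : (2 : F) = 0 := CharTwo.two_eq_zero
    linear_combination h1 + (1 - t) * this
  exact sub_eq_zero.1 (mul_self_eq_zero.1 h5)

/-- **`PSp_2m(q)`, `q > 2`** -/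
theorem dt_PSp {F : Type*} [Field F] [Fintype F] [CharP F 2] (hF : 2 < Fintype.card F) {m : ℕ} (hm : 1 ≤ m) :
    HasDt (CoxeterMatrix.B m) (fun _ => True) (PSp m F) := by
  obtain ⟨nn, h⟩ := dtx_PSp hF hm
  exact ⟨_, _, _, nn, _, h⟩

end Symplectic

end Cfsg.Agent.Omega.ML.Ex.Lie2

end

section


/-!
# The leaf `psu2` of the Lie(2) row (helper218)

`PSU₄(2)`, `PSU₅(2)`: `CommGen`, the first node is perfect, the last root group has at most two elements with `u * u = 1`.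
-/

set_option autoImplicit false
set_option linter.unusedSectionVars false

namespace Cfsg.Agent.Omega.ML.Ex.Lie2.PsuTwo

open Cfsg
open Cfsg.Agent.Nodes Cfsg.Agent.Nodes.Reps Cfsg.Agent.TitsThree Cfsg.Agent.TitsThree.KSideU

/-- the data of `PSU_{2m}(2)`, `PSU_{2m+1}(2)` -/
theorem di_PSU {F : Type*} [Field F] [Fintype F] [CharP F 2] {m N : ℕ} (hF : Fintype.card F = 2 ^ 2) (hm : 0 < m)
    (hN3 : 3 ≤ N) (hN : N = 2 * m ∨ N = 2 * m + 1) :
    HasDi (CoxeterMatrix.B m) (fun i : Fin m => (i : ℕ) + 1 < m) (fun c => ∀ i : Fin m, (i : ℕ) + 1 = m → c i < 4)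
      (PSU N F 2) := by
  rcases hN with hN | hN
  · obtain ⟨W, hW⟩ := exists_wframe_even hF hN
    obtain ⟨nn, hD⟩ := dtx_PSU_even hF hm hN3 W hW
    refine ⟨_, _, _, nn, _, { toRg := hD.toRg, comm := hD.comm, perf := fun i hi => hD.perf i (Or.inl hi) }, ?_⟩
    intro i hi
    have hi' : i = ⟨m - 1, by omega⟩ := Fin.ext (by change (i : ℕ) = m - 1; omega)
    rw [hi']
    exact lt_of_le_of_lt (SemiDat.iv_U hF hN3 hm W) (by norm_num)
  · obtain ⟨W, d, hd, hW⟩ := exists_wframe_odd hF hN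
    obtain ⟨nn, hD⟩ := dtx_PSU_odd hF hm hN3 W hd hW
    refine ⟨_, _, _, nn, _, { toRg := hD.toRg, comm := hD.comm, perf := fun i hi => hD.perf i (Or.inl hi) }, ?_⟩
    intro i hi
    have hi' : i = ⟨m - 1, by omega⟩ := Fin.ext (by change (i : ℕ) = m - 1; omega)
    rw [hi']
    exact lt_of_le_of_lt (SemiDat.iv_U hF hN3 hm W) (by norm_num)

/-- **The leaf `psu2`.** -/
theorem psu2 (F : Type) [Field F] [Fintype F] [CharP F 2] (N : ℕ) (hF : Fintype.card F = 4) (hN : N = 4 ∨ N = 5) :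
    HasDi (CoxeterMatrix.B 2) (fun i => i = 0) (fun c => c 1 < 4) (PSU N F 2) := by
  obtain ⟨Ac, h, Tor, n, Xr, hD, hP⟩ := di_PSU (F := F) (m := 2) (N := N) (by rw [hF]; norm_num) two_pos (by omega)
    (by omega)
  refine ⟨Ac, h, Tor, n, Xr, { toRg := hD.toRg, comm := hD.comm, perf := fun i hi => hD.perf i ?_ }, hP 1 rfl⟩
  rw [hi]
  decide

end Cfsg.Agent.Omega.ML.Ex.Lie2.PsuTwo

end

section


/-!
# The Lie(2) row: commutators in hexagonal systems, characteristic two, `|F| ≥ 4` (helper690)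

`R : HexRel σ x₁ … x₆`, the values in `U`, `F = C_E(σ)` of characteristic two with an element `≠ 0, 1`:

* `two` : `x₂(t) ∈ [U,U]`;  `four` : `x₄(t) ∈ [U,U]`;  `three` : `x₃(a) ∈ [U,U]`;  `five` : `x₅(a) ∈ [U,U]`.
-/

set_option autoImplicit false

namespace Cfsg.Agent.Omega.ML.Ex.Lie2.HexComm

open Cfsg.Agent.SplitTwo
open scoped commutatorElement

variable {E : Type*} [Field E] [CharP E 2] {σ : E ≃+* E} {G : Type*} [Group G] {x1 x2 x3 x4 x5 x6 : E → G}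

theorem kk_mem {U : Subgroup G} {a b : G} (ha : a ∈ U) (hb : b ∈ U) : kk a b ∈ ⁅U, U⁆ := by
  have h1 : kk a b = ⁅a⁻¹, b⁻¹⁆ := by
    rw [kk, commutatorElement_def, inv_inv, inv_inv]
  rw [h1]
  exact Subgroup.commutator_mem_commutator (inv_mem ha) (inv_mem hb)

theorem conj_mem {U : Subgroup G} {g z : G} (hg : g ∈ U) (hz : z ∈ ⁅U, U⁆) : g * z * g⁻¹ ∈ ⁅U, U⁆ := by
  have h1 : g * z * g⁻¹ = ⁅g, z⁆ * z := by rw [commutatorElement_def]; group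
  rw [h1]
  exact mul_mem (Subgroup.commutator_mem_commutator hg (Subgroup.commutator_le_self _ hz)) hz

/-- the adjoint is onto -/
theorem exists_shp [Finite E] (h3 : ∀ a, σ (σ (σ a)) = a) (c : E) : ∃ a, shp σ a = c := by
  by_cases hc : c = 0
  · exact ⟨0, by rw [shp, map_zero, map_zero, zero_mul, hc]⟩
  have hinj : Function.Injective fun x : E => x ^ 2 := fun x y hxy => by
    rcases sq_eq_sq_iff_eq_or_eq_neg.1 (show x ^ 2 = y ^ 2 from hxy) with h1 | h1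
    · exact h1
    · rw [h1, CharTwo.neg_eq]
  obtain ⟨s, hs⟩ := (Finite.injective_iff_surjective.1 hinj) (nrm σ c)
  have hs' : s ^ 2 = nrm σ c := hs
  have hfix : σ (nrm σ c) = nrm σ c := by
    rw [nrm, map_mul, map_mul, h3]
    ring
  have hσs : σ s = s := hinj (by
    change σ s ^ 2 = s ^ 2
    rw [← map_pow, hs', hfix])
  have h1 : σ c ≠ 0 := (map_ne_zero σ).2 hc
  have h2 : σ (σ c) ≠ 0 := (map_ne_zero σ).2 h1
  refine ⟨s / c, ?_⟩
  rw [shp, map_div₀, map_div₀, hσs, hσs, div_mul_div_comm, ← pow_two, hs', nrm]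
  field_simp

variable (R : HexRel σ x1 x2 x3 x4 x5 x6) {U : Subgroup G}
include R

theorem two (h1 : ∀ a, x1 a ∈ U) (h3 : ∀ a, x3 a ∈ U) {t : E} (ht : σ t = t) : x2 t ∈ ⁅U, U⁆ := by
  have h : trc σ t 1 = t := by
    rw [trc, mul_one, ht, ht]
    have h2 := CharTwo.add_self_eq_zero t
    rw [h2, zero_add]
  rw [← h, ← R.c13]
  exact kk_mem (h1 _) (h3 _)

theorem four (h1 : ∀ a, x1 a ∈ U) (h3 : ∀ a, x3 a ∈ U) (h6 : ∀ t, σ t = t → x6 t ∈ U) {t : E} (ht : σ t = t) :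
    x4 t ∈ ⁅U, U⁆ := by
  have h := R.c26 t 1 ht (map_one σ)
  rw [mul_one] at h
  rw [← h]
  exact kk_mem (Subgroup.commutator_le_self _ (two R h1 h3 ht)) (h6 1 (map_one σ))

theorem three [Finite E] (h1 : ∀ a, x1 a ∈ U) (h3 : ∀ a, x3 a ∈ U) (h6 : ∀ t, σ t = t → x6 t ∈ U) {l : E}
    (hl : σ l = l) (hl0 : l ≠ 0) (hl1 : l ≠ 1) (c : E) : x3 c ∈ ⁅U, U⁆ := by
  obtain ⟨a, ha⟩ := exists_shp R.cube c
  -- `t = 1 / (l - 1)`
  have hd : l - 1 ≠ 0 := sub_ne_zero.2 hl1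
  obtain ⟨t, ht⟩ : ∃ t, t = (l - 1)⁻¹ := ⟨_, rfl⟩
  have htσ : σ t = t := by rw [ht, map_inv₀, map_sub, map_one, hl]
  have htl : σ (t / l) = t / l := by rw [map_div₀, htσ, hl]
  have hn : σ (nrm σ a) = nrm σ a := by
    rw [nrm, map_mul, map_mul, R.cube]
    ring
  have hn' : σ (nrm σ (l * a)) = nrm σ (l * a) := by
    rw [nrm, map_mul, map_mul, R.cube]
    ring
  have f2 : ∀ s, σ s = s → x2 s ∈ ⁅U, U⁆ := fun s hs => two R h1 h3 hs
  have f4 : ∀ s, σ s = s → x4 s ∈ ⁅U, U⁆ := fun s hs => four R h1 h3 h6 hs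
  have e1 := R.c16 a t htσ
  have e2 := R.c16 (l * a) (t / l) htl
  have s2 : shp σ (l * a) = l ^ 2 * shp σ a := by
    rw [shp, shp, map_mul, map_mul, hl, hl]
    ring
  have e5 : t / l * (l * a) = t * a := by field_simp
  rw [s2, e5] at e2
  have k1 : kk (x1 a) (x6 t) ∈ ⁅U, U⁆ := kk_mem (h1 _) (h6 _ htσ)
  have k2 : kk (x1 (l * a)) (x6 (t / l)) ∈ ⁅U, U⁆ := kk_mem (h1 _) (h6 _ htl)
  rw [e1] at k1
  rw [e2] at k2
  have m2 := f2 (-(t * nrm σ a)) (by rw [map_neg, map_mul, htσ, hn])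
  have m2' := f2 (-(t / l * nrm σ (l * a))) (by rw [map_neg, map_mul, htl, hn'])
  have m4 := f4 (t ^ 2 * nrm σ a) (by rw [map_mul, map_pow, htσ, hn])
  have m4' := f4 ((t / l) ^ 2 * nrm σ (l * a)) (by rw [map_mul, map_pow, htl, hn'])
  -- generic: `p a b c ∈ D`, `p' a' b' c ∈ D` with `p, p', b, b' ∈ D` gives `a' a⁻¹ ∈ D`
  have key : ∀ p p' u u' b b' v : G, p ∈ ⁅U, U⁆ → p' ∈ ⁅U, U⁆ → b ∈ ⁅U, U⁆ → b' ∈ ⁅U, U⁆ → u ∈ U → u' ∈ U →
      p * u * b * v ∈ ⁅U, U⁆ → p' * u' * b' * v ∈ ⁅U, U⁆ → u' * u⁻¹ ∈ ⁅U, U⁆ := by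
    intro p p' u u' b b' v hp hp' hb hb' hu hu' h h'
    have c1 : u * b * v ∈ ⁅U, U⁆ := by
      have := mul_mem (inv_mem hp) h
      simpa [mul_assoc] using this
    have c2 : u' * b' * v ∈ ⁅U, U⁆ := by
      have := mul_mem (inv_mem hp') h'
      simpa [mul_assoc] using this
    have c3 : u' * (b' * b⁻¹) * u⁻¹ ∈ ⁅U, U⁆ := by
      have h5 : u' * (b' * b⁻¹) * u⁻¹ = (u' * b' * v) * (u * b * v)⁻¹ := by group
      rw [h5]
      exact mul_mem c2 (inv_mem c1)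
    have c4 : u' * (b' * b⁻¹) * u'⁻¹ ∈ ⁅U, U⁆ := conj_mem hu' (mul_mem hb' (inv_mem hb))
    have h6 : u' * u⁻¹ = (u' * (b' * b⁻¹) * u'⁻¹)⁻¹ * (u' * (b' * b⁻¹) * u⁻¹) := by group
    rw [h6]
    exact mul_mem (inv_mem c4) c3
  have hfin := key _ _ _ _ _ _ _ m2 m2' m4 m4' (h3 _) (h3 _) k1 k2
  have e3 : x3 (t / l * (l ^ 2 * shp σ a)) * (x3 (t * shp σ a))⁻¹ = x3 c := by
    rw [mul_inv_eq_iff_eq_mul, ← R.add3]
    congr 1
    rw [ha, ht]
    field_simp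
    ring
  rwa [e3] at hfin

theorem five [Finite E] (h1 : ∀ a, x1 a ∈ U) (h3 : ∀ a, x3 a ∈ U) (h6 : ∀ t, σ t = t → x6 t ∈ U) {l : E}
    (hl : σ l = l) (hl0 : l ≠ 0) (hl1 : l ≠ 1) (c : E) : x5 c ∈ ⁅U, U⁆ := by
  have hn : σ (nrm σ (-c)) = nrm σ (-c) := by
    rw [nrm, map_mul, map_mul, R.cube]
    ring
  have e1 := R.c16 (-c) 1 (map_one σ)
  have k1 : kk (x1 (-c)) (x6 1) ∈ ⁅U, U⁆ := kk_mem (h1 _) (h6 _ (map_one σ))
  rw [e1, one_mul, one_mul, one_mul, one_pow, one_mul, neg_neg] at k1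
  have m2 := two R h1 h3 (t := -(nrm σ (-c))) (by rw [map_neg, hn])
  have m3 := three R h1 h3 h6 hl hl0 hl1 (shp σ (-c))
  have m4 := four R h1 h3 h6 (t := nrm σ (-c)) hn
  have m := mul_mem (inv_mem (mul_mem (mul_mem m2 m3) m4)) k1
  rwa [inv_mul_cancel_left] at m

end Cfsg.Agent.Omega.ML.Ex.Lie2.HexComm

end
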