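import Cfsg.Agent.Mrg.Omega.ML.Ex.Lie2.Dat
import Cfsg.Agent.Mrg.Omega.EH3.Kf.TableSL
import Cfsg.Agent.Mrg.Omega.EH3.Kf.FamD4
import Cfsg.Agent.ChevalleyStructure.D4H1
import Cfsg.Agent.Mrg.Omega.Lie.End.ZeroLone
import Mathlib
import Cfsg.Agent.Mrg.Omega.EH3.Kf.TwWitt
import Cfsg.Agent.Nodes.WittU
import Cfsg.Agent.TitsThree.KInstU
import Cfsg.Agent.TitsThree.KInstSp

section


/-!
# The Lie(2) row of the W-part: the data of `G₂(q)` and `³D₄(q)` (cut #23457 (4); helper833)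

* `le_comm_of_tr` : `X_i ≤ [L_i, L_i]` for the nodes of type `TrNode`; `le_comm_node` : `|X_i| ≥ 4`, `X_i` of exponent two;
* `G2.commGen`, `G2.node`, **`dt_G2`** : `G₂(q)`, `q ≥ 4`;
* `D4.commGen`, `D4.node0`, `D4.node1`, **`dt_D4`** : `³D₄(q)`, `q ≥ 4`; `dt_D4'` : `³D₄(q)`, `q` even, the node over `F_{q³}`.
-/

set_option autoImplicit false
set_option linter.unusedSectionVars false

namespace Cfsg.Agent.Omega.ML.Ex.Lie2.DataG

open CoxeterSystem Cfsg.Agent.ChevalleyStructure.CoxeterGeom Cfsg.Agent.Tits.Roots Cfsg.Agent.Tits.Core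
  Cfsg.Agent.Tits.RootComb Cfsg.Agent.Nodes.Comb Cfsg.Agent.Nodes.Reps Cfsg.Agent.Nodes.BNOf Cfsg.Agent.Nodes.BNOf.RGD
  Cfsg.Agent.Nodes.FreeTorus Cfsg.Agent.Omega.Lie.End.KTorus
open Cfsg.Lie Cfsg.Agent.ChevalleyStructure
open Cfsg.Agent.Omega.EH3.Kf Cfsg.Agent.Omega.EH3.Kf.Lev
open scoped commutatorElement

universe u v

section node

variable {I W Y : Type*} [Fintype I] [DecidableEq I] [Group W] [Group Y] {M : CoxeterMatrix I}
  {cs : CoxeterSystem M W} {A : I → I → ℤ} {h : IsCartan M A} {T : Subgroup Y} {n : I → Y}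
  {X : (I → ℤ) → Subgroup Y}

/-- a node with a transitive torus -/
theorem le_comm_of_tr {i : I} (hN : TrNode T n X i) : X (sr i) ≤ ⁅Li X i, Li X i⁆ := by
  intro x hx
  by_cases hx1 : x = 1
  · rw [hx1]; exact one_mem _
  obtain ⟨y, hy, hy1, hyx⟩ : ∃ y ∈ X (sr i), y ≠ 1 ∧ y ≠ x := by
    obtain ⟨a, ha, b, hb, ha1, hb1, hab⟩ := hN.two
    by_cases hax : a = x
    · exact ⟨b, hb, hb1, fun h1 => hab (hax.trans h1.symm)⟩
    · exact ⟨a, ha, ha1, hax⟩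
  have hxy : x * y ≠ 1 := by
    intro h1
    apply hyx
    have h2 := hN.sq y hy
    exact (mul_right_cancel (h1.trans h2.symm)).symm
  obtain ⟨t, ht, e⟩ := hN.tr y hy (x * y) (mul_mem hx hy) hy1 hxy
  have h1 : ⁅t, y⁆ = x := by
    rw [commutatorElement_def, e, mul_inv_cancel_right]
  rw [← h1]
  exact Subgroup.commutator_mem_commutator ht.2.1 (le_sup_left (a := X (sr i)) hy)

/-- a node with at least four elements, of exponent two -/
theorem le_comm_node [Finite W] [Finite Y] (R : RGD cs h 2 T n X) (hTc : ∀ s ∈ T, ∀ t ∈ T, s * t = t * s) {i : I}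
    (h4 : 4 ≤ Nat.card (X (sr i))) (hsq : ∀ x ∈ X (sr i), x * x = 1) : X (sr i) ≤ ⁅Li X i, Li X i⁆ :=
  le_comm_of_tr (Cfsg.Agent.Omega.Lie.End.KTrFree.trNode R hTc h4 hsq)

end node

/-! ### `G₂(q)` -/

namespace G2

variable {K : Type v} [Field K] [CharP K 2]

theorem commGen (hK : ∃ t : K, t ≠ 0 ∧ t ≠ 1) :
    CommGen CoxeterMatrix.G₂.toCoxeterSystem FamG2.isType.isCartan (FamG2.X K) := by
  intro x hx h0 hs
  obtain ⟨r, hr, rfl⟩ := (Nodes.RGDChev.isRoot_iff FamG2.isType _ _).1 hx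
  have h1 := FamG2.pos_tab r hr (fun k => h0 k)
  have h2 : r = 8 ∨ r = 9 ∨ r = 10 ∨ r = 11 := by
    rcases h1 with rfl | rfl | h1
    · exact absurd FamG2.vec6 (hs 1)
    · exact absurd FamG2.vec7 (hs 0)
    · exact h1
  intro g hg
  obtain ⟨t, rfl⟩ := FamG2.mem_X hr hg
  exact FamG2.mem_comm hK h2 t

theorem card_X [Finite K] {r : ℕ} (hr : r < 12) : Nat.card (FamG2.X K (Nodes.RGDChev.vec chevG2 2 r)) = Nat.card K := by
  refine (Nat.card_congr (Equiv.ofBijective (fun t : K => (⟨FamG2.e K r t, FamG2.e_mem hr t⟩ :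
    FamG2.X K (Nodes.RGDChev.vec chevG2 2 r))) ⟨fun a b hab => ?_, fun g => ?_⟩)).symm
  · have h1 : FamG2.e K r a = FamG2.e K r b := congrArg Subtype.val hab
    by_contra hne
    have h2 : FamG2.e K r (a - b) ≠ 1 := FamG2.e_ne hr (sub_ne_zero.2 hne)
    apply h2
    have h3 := FamG2.e_add (K := K) r (a - b) b
    rw [sub_add_cancel, h1] at h3
    exact mul_eq_right.1 h3
  · obtain ⟨t, ht⟩ := FamG2.mem_X hr g.2
    exact ⟨t, Subtype.ext ht.symm⟩

theorem node [Finite K] (h4 : 4 ≤ Nat.card K) (i : Fin 2) :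
    FamG2.X K (sr i) ≤ ⁅Li (FamG2.X K) i, Li (FamG2.X K) i⁆ := by
  have b := FamChev.bd FamG2.isType (K := K)
  have := b.fin
  refine le_comm_node b.rgd b.ab ?_ (b.el i)
  have h1 : ∃ r < 12, Nodes.RGDChev.vec chevG2 2 r = sr i := by
    fin_cases i
    · exact ⟨7, by norm_num, FamG2.vec7⟩
    · exact ⟨6, by norm_num, FamG2.vec6⟩
  obtain ⟨r, hr, e⟩ := h1
  change 4 ≤ Nat.card (FamG2.X K (sr i))
  rw [← e, card_X hr]
  exact h4

end G2

/-! ### `³D₄(q)` -/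

namespace D4

open Cfsg.Agent.Nodes Cfsg.Agent.Nodes.RGDTwD4 Cfsg.Agent.Hexagon Cfsg.Agent.Nodes.RGDFold
open Cfsg.Agent.SplitTwo (HexPar HexRel)

variable {K : Type v} [Field K] [Fintype K] [CharP K 2] {q : ℕ} {φ : K →+* K}

theorem cube (hK : Fintype.card K = q ^ 3) (hφ : ∀ x, φ x = x ^ q) {σ : K ≃+* K} (hσ : ∀ x, σ x = φ x) (a : K) :
    σ (σ (σ a)) = a := by
  rw [hσ, hσ, hσ, hφ, hφ, hφ, ← pow_mul, ← pow_mul]
  have : q * (q * q) = q ^ 3 := by ring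
  rw [this, ← hK]
  exact FiniteField.pow_card a

theorem commGen (hK : Fintype.card K = q ^ 3) (hφ : ∀ x, φ x = x ^ q) :
    CommGen CoxeterMatrix.G₂.toCoxeterSystem RGDTwD4.isCartan (RGDTwD4.X φ q) := by
  let σ : K ≃+* K := RingEquiv.ofBijective φ ((Finite.injective_iff_bijective).1 φ.injective)
  have hσ : ∀ x, σ x = φ x := fun x => rfl
  have h3 := cube hK hφ hσ
  have hle := D4Fixed.twisted_le_fix hK hφ
  have P := TwD4Par.hexPar hφ hle hσ h3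
  let cs := CoxeterMatrix.G₂.toCoxeterSystem
  have hlt : ∀ r : ℕ, r < 24 → r < chevD4.nroots := fun r hr => hr
  have hle' : ∀ {z : Fin 2 → ℤ}, z ∈ RGD.Pos cs RGDTwD4.isCartan →
      RGDTwD4.X φ q z ≤ RGD.Sup (RGDTwD4.X φ q) (RGD.Pos cs RGDTwD4.isCartan) := fun hz => RGD.le_Sup hz
  have p0 : (sr 0 : Fin 2 → ℤ) ∈ RGD.Pos cs RGDTwD4.isCartan := ⟨isRoot_sr cs _ 0, sr_nonneg 0⟩
  have p1 : (sr 1 : Fin 2 → ℤ) ∈ RGD.Pos cs RGDTwD4.isCartan := ⟨isRoot_sr cs _ 1, sr_nonneg 1⟩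
  have p5 : V chevD4 J 19 ∈ RGD.Pos cs RGDTwD4.isCartan :=
    ⟨FamD4.isRoot_V cs (hlt 19 (by norm_num)), fun k => (FamD4.pos_tab k).1.le⟩
  have p3 : V chevD4 J 20 ∈ RGD.Pos cs RGDTwD4.isCartan :=
    ⟨FamD4.isRoot_V cs (hlt 20 (by norm_num)), fun k => (FamD4.pos_tab k).2.1.le⟩
  obtain ⟨B, hB⟩ := FamD4.exists_moved hK hφ
  obtain ⟨g2, g3, g4, g5⟩ := FamD4.hexGen P.rel (U := RGD.Sup (RGDTwD4.X φ q) (RGD.Pos cs RGDTwD4.isCartan))
    (fun a => hle' p1 (by rw [FamD4.X_sr1 hle, P.mem1]; exact ⟨a, rfl⟩))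
    (fun a => hle' p3 (by rw [FamD4.X_20 hle, P.mem3]; exact ⟨a, rfl⟩))
    (fun a => hle' p5 (by rw [FamD4.X_19 hle, P.mem5]; exact ⟨a, rfl⟩))
    (fun t ht => hle' p0 (by rw [FamD4.X_sr0 hle, P.mem6]; exact ⟨t, ht, rfl⟩)) ⟨B, hB⟩
  intro z hz h0 hs
  rcases FamD4.pos_cases cs hz h0 hs with rfl | rfl | rfl | rfl
  · rw [FamD4.X_19 hle]
    intro g hg
    obtain ⟨a, rfl⟩ := (P.mem5 g).1 hg
    exact g5 a
  · rw [FamD4.X_20 hle]
    intro g hg
    obtain ⟨a, rfl⟩ := (P.mem3 g).1 hg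
    exact g3 a
  · rw [FamD4.X_22 hle]
    intro g hg
    obtain ⟨t, ht, rfl⟩ := (P.mem2 g).1 hg
    exact g2 t ht
  · rw [FamD4.X_23 hle]
    intro g hg
    obtain ⟨t, ht, rfl⟩ := (P.mem4 g).1 hg
    exact g4 t ht

/-- the orders of the simple root groups -/
theorem card_X1 (hK : Fintype.card K = q ^ 3) (hφ : ∀ x, φ x = x ^ q) :
    Nat.card (RGDTwD4.X φ q (sr 1)) = q ^ 3 := by
  let σ : K ≃+* K := RingEquiv.ofBijective φ ((Finite.injective_iff_bijective).1 φ.injective)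
  have hσ : ∀ x, σ x = φ x := fun x => rfl
  have h3 := cube hK hφ hσ
  have hle := D4Fixed.twisted_le_fix hK hφ
  have P := TwD4Par.hexPar hφ hle hσ h3
  rw [FamD4.X_sr1 hle, ← hK, ← Nat.card_eq_fintype_card]
  refine (Nat.card_congr (Equiv.ofBijective (fun t : K => (⟨_, (P.mem1 _).2 ⟨t, rfl⟩⟩ :
    TwD4RGD.X K q 1)) ⟨fun a b hab => ?_, fun g => ?_⟩)).symm
  · exact P.inj1 _ _ (congrArg Subtype.val hab)
  · obtain ⟨t, ht⟩ := (P.mem1 _).1 g.2
    exact ⟨t, Subtype.ext ht⟩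

/-- the node over the field of `q³` elements -/
theorem node1 (hq : 2 ≤ q) (hK : Fintype.card K = q ^ 3) (hφ : ∀ x, φ x = x ^ q) :
    RGDTwD4.X φ q (sr 1) ≤ ⁅Li (RGDTwD4.X φ q) 1, Li (RGDTwD4.X φ q) 1⁆ := by
  let σ : K ≃+* K := RingEquiv.ofBijective φ ((Finite.injective_iff_bijective).1 φ.injective)
  have hσ : ∀ x, σ x = φ x := fun x => rfl
  have h3 := cube hK hφ hσ
  have b := FamD4.bd hK hφ hσ h3
  have := b.fin
  refine le_comm_node b.rgd b.ab ?_ (b.el 1)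
  rw [card_X1 hK hφ]
  have := Nat.pow_le_pow_left hq 3
  omega

/-- the node over the field of `q` elements -/
theorem node0 (hq : 4 ≤ q) (hK : Fintype.card K = q ^ 3) (hφ : ∀ x, φ x = x ^ q) :
    RGDTwD4.X φ q (sr 0) ≤ ⁅Li (RGDTwD4.X φ q) 0, Li (RGDTwD4.X φ q) 0⁆ := by
  let σ : K ≃+* K := RingEquiv.ofBijective φ ((Finite.injective_iff_bijective).1 φ.injective)
  have hσ : ∀ x, σ x = φ x := fun x => rfl
  have h3 := cube hK hφ hσ
  have hle := D4Fixed.twisted_le_fix hK hφ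
  have P := TwD4Par.hexPar hφ hle hσ h3
  have b := FamD4.bd hK hφ hσ h3
  have := b.fin
  refine le_comm_node b.rgd b.ab ?_ (b.el 0)
  rw [FamD4.X_sr0 hle]
  have hc := D4H1.card_fixed (by omega : 1 < q) hK hφ
  have hfin : Finite {b : Kˣ // φ b = b} := inferInstance
  have hfin2 : Finite (TwD4RGD.X K q 6) := inferInstance
  let f : Option {b : Kˣ // φ b = b} → TwD4RGD.X K q 6 := fun o =>
    match o with
    | none => ⟨_, (P.mem6 _).2 ⟨0, map_zero σ, rfl⟩⟩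
    | some b => ⟨_, (P.mem6 _).2 ⟨(b.1 : K), b.2, rfl⟩⟩
  have hf : Function.Injective f := by
    intro x y hxy
    have h1 := congrArg Subtype.val hxy
    match x, y with
    | none, none => rfl
    | none, some b => exact absurd (P.inj6 _ _ (map_zero σ) b.2 h1) b.1.ne_zero.symm
    | some b, none => exact absurd (P.inj6 _ _ b.2 (map_zero σ) h1) b.1.ne_zero
    | some b, some c =>
      have h2 := P.inj6 _ _ b.2 c.2 h1
      exact congrArg some (Subtype.ext (Units.ext h2))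
  have h1 := Nat.card_le_card_of_injective f hf
  rw [Finite.card_option, hc] at h1
  omega

end D4

/-- **`G₂(q)`, `q ≥ 4` even.** -/
theorem dt_G2 {F : Type v} [Field F] [Finite F] [CharP F 2] (h4 : 4 ≤ Nat.card F) :
    HasDt CoxeterMatrix.G₂ (fun _ => True) ↥(chevG2.group F) := by
  have b := FamChev.bd FamG2.isType (K := F)
  have ht : ∃ t : F, t ≠ 0 ∧ t ≠ 1 := by
    have := Fintype.ofFinite F
    rw [Nat.card_eq_fintype_card] at h4
    exact FamG2.exists_ne_of_card (by omega)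
  exact ⟨_, _, _, _, _,
    { fin := b.fin
      rgd := b.rgd
      gen := b.gen
      comm := G2.commGen ht
      perf := fun i _ => G2.node h4 i }⟩

/-- **`³D₄(q)`, `q ≥ 4` even.** -/
theorem dt_D4 {K : Type v} [Field K] [Fintype K] [CharP K 2] {q : ℕ} (hq : IsPrimePow q)
    (hK : Fintype.card K = q ^ 3) (h4 : 4 ≤ q) : HasDt CoxeterMatrix.G₂ (fun _ => True) ↥(twistedD4 K q) := by
  obtain ⟨φ, hφ⟩ := D4Fixed.exists_frob hq hK
  let σ : K ≃+* K := RingEquiv.ofBijective φ ((Finite.injective_iff_bijective).1 φ.injective)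
  have hσ : ∀ x, σ x = φ x := fun x => rfl
  have b := FamD4.bd hK hφ hσ (D4.cube hK hφ hσ)
  refine ⟨_, _, _, _, _,
    { fin := b.fin
      rgd := b.rgd
      gen := b.gen
      comm := D4.commGen hK hφ
      perf := fun i _ => ?_ }⟩
  fin_cases i
  · exact D4.node0 h4 hK hφ
  · exact D4.node1 (by omega) hK hφ

/-- `³D₄(q)`, `q` even: the node over the field of `q³` elements is perfect. -/
theorem dt_D4' {K : Type v} [Field K] [Fintype K] [CharP K 2] {q : ℕ} (hq : IsPrimePow q)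
    (hK : Fintype.card K = q ^ 3) : HasDt CoxeterMatrix.G₂ (fun i => i = 1) ↥(twistedD4 K q) := by
  obtain ⟨φ, hφ⟩ := D4Fixed.exists_frob hq hK
  let σ : K ≃+* K := RingEquiv.ofBijective φ ((Finite.injective_iff_bijective).1 φ.injective)
  have hσ : ∀ x, σ x = φ x := fun x => rfl
  have b := FamD4.bd hK hφ hσ (D4.cube hK hφ hσ)
  refine ⟨_, _, _, _, _,
    { fin := b.fin
      rgd := b.rgd
      gen := b.gen
      comm := D4.commGen hK hφ
      perf := fun i hi => ?_ }⟩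
  subst hi
  exact D4.node1 hq.one_lt hK hφ

end Cfsg.Agent.Omega.ML.Ex.Lie2.DataG

end

section


/-!
# Perfect rank one subgroups of a Witt model, characteristic two (helper209; C4, #23457 (4))

`M : Model Fr K`, `x` a signed index, `LZ = ⟨Z_x, Z_{-x}⟩`, `LX = ⟨X_{x,y}, X_{-x,-y}⟩`.

* `perf_Z` : `Z_x ≤ ⁅LZ, LZ⁆` if there are a central admissible pair `(0, c₀)`, `c₀ ≠ 0`, and `a ≠ 0` with `a σ(a) ≠ 1`
  (symplectic and unitary groups over `𝔽_q`, `q ≥ 4`; the root group may be non-abelian);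
* `perf_X` : `X_{x,y} ≤ ⁅LX, LX⁆` if there is `t ≠ 0, 1` in `F`;
* `perf_last`, `perf_ne` : the same for the simple nodes of `Nodes.WittModel.X M`.
-/

set_option autoImplicit false
set_option linter.unusedVariables false
set_option linter.unusedSectionVars false

namespace Cfsg.Agent.Omega.ML.Ex.Lie2.PerfU

open CoxeterSystem Cfsg.Agent.ChevalleyStructure.CoxeterGeom Cfsg.Agent.Tits.Roots Cfsg.Agent.Nodes.TypeC
open Cfsg.Agent.Nodes.Comb Cfsg.Agent.Nodes.Reps Cfsg.Agent.Nodes.WittRoot Cfsg.Agent.Nodes.BNOf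
open Cfsg.Agent.Nodes.RGDLib Cfsg.Agent.Nodes.WittAll
open Cfsg.Agent.TitsThree Cfsg.Agent.TitsThree.Siegel Cfsg.Agent.TitsThree.WittFrame
  Cfsg.Agent.TitsThree.WittWeyl Cfsg.Agent.TitsThree.FrameCN
open Cfsg.Agent.Omega.EH3.Kf.TwC Cfsg.Agent.Omega.EH3.Kf.TwWitt
open scoped commutatorElement

variable {F : Type*} [Field F] {V : Type*} [AddCommGroup V] [Module F V] {H : HForm F V} {n : ℕ}
  {Fr : Frame H (Fin n)} {K : Type*} [Group K] (M : Model Fr K)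

/-! ### Weyl elements in `K` -/

/-- the Weyl element of type II -/
def kZ (x : Fin n × Bool) (p : Fr.Adm) : K :=
  M.Z x p * M.Z (neg x) (Frame.Adm.smul (-(Fr.η x * (H.σ p.c)⁻¹)) p) *
    M.Z x (Frame.Adm.smul (H.ε * p.c * (H.σ p.c)⁻¹) p)

/-- the Weyl element of type I -/
theorem kZ_eq (x : Fin n × Bool) (p : Fr.Adm) (h : nZ Fr x p ∈ M.I) : kZ M x p = M.φ ⟨nZ Fr x p, h⟩ := by
  unfold kZ Model.Z
  rw [← map_mul, ← map_mul]
  rfl

theorem nZ_mem_I (x : Fin n × Bool) (p : Fr.Adm) : nZ Fr x p ∈ M.I :=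
  mul_mem (mul_mem (M.hZ _ _) (M.hZ _ _)) (M.hZ _ _)

theorem kZ_conj (x : Fin n × Bool) (p : Fr.Adm) (hc : p.c ≠ 0) (q : Fr.Adm) :
    kZ M x p * M.Z x q * (kZ M x p)⁻¹ =
      M.Z (neg x) (Frame.Adm.smul (H.ε⁻¹ * Fr.η x * p.c⁻¹) (refl Fr p hc q)) := by
  rw [kZ_eq M x p (nZ_mem_I M x p)]
  unfold Model.Z
  rw [← map_mul, ← map_inv, ← map_mul]
  exact congrArg M.φ (Subtype.ext (nZ_conj_Z Fr x p hc q))

/-- reflections at central pairs are trivial -/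
theorem refl_of_w {p : Fr.Adm} (hw : p.w = 0) (hc : p.c ≠ 0) (q : Fr.Adm) : refl Fr p hc q = q := by
  apply Frame.Adm.ext
  · rw [refl_w, hw, smul_zero, add_zero]
  · rw [refl_c]

/-- the torus element `h(p, q)` -/
theorem tor_conj {x : Fin n × Bool} {p p' : Fr.Adm} (hw : p.w = 0) (hc : p.c ≠ 0) (hw' : p'.w = 0) (hc' : p'.c ≠ 0)
    (q : Fr.Adm) : (kZ M (neg x) p' * kZ M x p) * M.Z x q * (kZ M (neg x) p' * kZ M x p)⁻¹ =
      M.Z x (Frame.Adm.smul (H.ε⁻¹ * (p.c * p'.c)⁻¹) q) := by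
  have h1 : (kZ M (neg x) p' * kZ M x p) * M.Z x q * (kZ M (neg x) p' * kZ M x p)⁻¹ =
      kZ M (neg x) p' * (kZ M x p * M.Z x q * (kZ M x p)⁻¹) * (kZ M (neg x) p')⁻¹ := by group
  rw [h1, kZ_conj M x p hc, refl_of_w hw, kZ_conj M (neg x) p' hc', refl_of_w hw', WittFrame.neg_neg,
    Frame.Adm.smul_smul]
  congr 2
  have h2 := Fr.η_neg x
  have h3 := H.ε_ne
  have h4 := Fr.η_ne x
  have e1 : Fr.η (neg x) = H.ε * (Fr.η x)⁻¹ := by rw [← h2]; field_simp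
  rw [e1, mul_inv]
  field_simp

section Z

variable {x : Fin n × Bool} {y y' : Fin n → ℤ} (ey : ee y = wt x + wt x) (ey' : ee y' = wt (neg x) + wt (neg x))

include ey ey' in
theorem kZ_mem {L : Subgroup K} (h1 : Nodes.WittModel.X M y ≤ L) (h2 : Nodes.WittModel.X M y' ≤ L) (p : Fr.Adm) :
    kZ M x p ∈ L :=
  mul_mem (mul_mem (h1 (Z_mem M ey _)) (h2 (Z_mem M ey' _))) (h1 (Z_mem M ey _))

include ey ey' in
theorem kZ_mem' {L : Subgroup K} (h1 : Nodes.WittModel.X M y ≤ L) (h2 : Nodes.WittModel.X M y' ≤ L) (p : Fr.Adm) :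
    kZ M (neg x) p ∈ L := by
  refine kZ_mem M (x := neg x) (y := y') (y' := y) ey' ?_ h2 h1 p
  rw [WittFrame.neg_neg]
  exact ey

include ey ey' in
/-- **The nodes of type `Z`.** -/
theorem perf_Z (h2 : (2 : F) = 0) {p0 : Fr.Adm} (hw : p0.w = 0) (hc : p0.c ≠ 0) {a : F} (ha0 : a ≠ 0)
    (ha : a * H.σ a ≠ 1) :
    Nodes.WittModel.X M y ≤ ⁅Nodes.WittModel.X M y ⊔ Nodes.WittModel.X M y',
      Nodes.WittModel.X M y ⊔ Nodes.WittModel.X M y'⁆ := by
  set L : Subgroup K := Nodes.WittModel.X M y ⊔ Nodes.WittModel.X M y' with hL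
  have hσa : H.σ a ≠ 0 := by simpa using ha0
  have hl0 : a * H.σ a ≠ 0 := mul_ne_zero ha0 hσa
  -- the torus element
  have hc1 : (Frame.Adm.smul a p0).c ≠ 0 := by
    rw [Frame.Adm.smul_c]
    exact mul_ne_zero hl0 hc
  have hw1 : (Frame.Adm.smul a p0).w = 0 := by rw [Frame.Adm.smul_w, hw, smul_zero]
  obtain ⟨g, hg⟩ : ∃ g, g = kZ M (neg x) p0 * kZ M x (Frame.Adm.smul a p0) := ⟨_, rfl⟩
  obtain ⟨g0, hg0⟩ : ∃ g, g = kZ M (neg x) p0 * kZ M x p0 := ⟨_, rfl⟩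
  have hgL : g ∈ L := by
    rw [hg]
    exact mul_mem (kZ_mem' M ey ey' le_sup_left le_sup_right _) (kZ_mem M ey ey' le_sup_left le_sup_right _)
  have hg0L : g0 ∈ L := by
    rw [hg0]
    exact mul_mem (kZ_mem' M ey ey' le_sup_left le_sup_right _) (kZ_mem M ey ey' le_sup_left le_sup_right _)
  have e1 : ∀ q, g * M.Z x q * g⁻¹ = M.Z x (Frame.Adm.smul (H.ε⁻¹ * ((Frame.Adm.smul a p0).c * p0.c)⁻¹) q) := by
    intro q
    rw [hg]
    exact tor_conj M hw1 hc1 hw hc q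
  have e0 : ∀ q, g0 * M.Z x q * g0⁻¹ = M.Z x (Frame.Adm.smul (H.ε⁻¹ * (p0.c * p0.c)⁻¹) q) := by
    intro q
    rw [hg0]
    exact tor_conj M hw hc hw hc q
  set u : F := a * H.σ a with hu
  have hσu : H.σ u = u := by rw [hu, map_mul, H.σσ, mul_comm]
  have key : ∀ q, (g⁻¹ * g0) * M.Z x q * (g⁻¹ * g0)⁻¹ = M.Z x (Frame.Adm.smul u q) := by
    intro q
    have h3 : (g⁻¹ * g0) * M.Z x q * (g⁻¹ * g0)⁻¹ = g⁻¹ * (g0 * M.Z x q * g0⁻¹) * g := by group
    have h4 : g * M.Z x (Frame.Adm.smul u q) * g⁻¹ = g0 * M.Z x q * g0⁻¹ := by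
      rw [e1, e0, Frame.Adm.smul_smul]
      congr 2
      rw [Frame.Adm.smul_c, ← hu]
      have := H.ε_ne
      field_simp
    rw [h3, ← h4]; group
  have hkL : g⁻¹ * g0 ∈ L := mul_mem (inv_mem hgL) hg0L
  -- commutators
  have hcom : ∀ q, M.Z x (Frame.Adm.smul u q * q⁻¹) ∈ ⁅L, L⁆ := by
    intro q
    have h3 : M.Z x (Frame.Adm.smul u q * q⁻¹) = ⁅g⁻¹ * g0, M.Z x q⁆ := by
      rw [commutatorElement_def, key, Z_mul]
      congr 1
      refine eq_inv_of_mul_eq_one_left ?_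
      rw [← Z_mul, inv_mul_cancel, Z_one]
    rw [h3]
    exact Subgroup.commutator_mem_commutator hkL ((le_sup_left : _ ≤ L) (Z_mem M ey q))
  have hu1 : u - 1 ≠ 0 := sub_ne_zero.2 ha
  set s : F := (u - 1)⁻¹ with hs
  have hσs : H.σ s = s := by rw [hs, map_inv₀, map_sub, hσu, map_one]
  intro k hk
  obtain ⟨p, rfl⟩ := (mem_ZK M ey).1 hk
  obtain ⟨r, hr⟩ : ∃ r, r = (Frame.Adm.smul u (Frame.Adm.smul s p) * (Frame.Adm.smul s p)⁻¹)⁻¹ * p := ⟨_, rfl⟩
  have hrw : r.w = 0 := by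
    rw [hr]
    simp only [Frame.Adm.mul_w, Frame.Adm.inv_w, Frame.Adm.smul_w]
    have : u • s • p.w + -(s • p.w) = p.w := by
      have h5 : u • s • p.w + -(s • p.w) = ((u - 1) * s) • p.w := by module
      rw [h5, hs, mul_inv_cancel₀ hu1, _root_.one_smul]
    rw [this]
    exact neg_add_cancel _
  have hr2 : Frame.Adm.smul u (Frame.Adm.smul s r) * (Frame.Adm.smul s r)⁻¹ = r := by
    apply Frame.Adm.ext
    · simp only [Frame.Adm.mul_w, Frame.Adm.inv_w, Frame.Adm.smul_w, hrw, smul_zero, neg_zero, add_zero]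
    · simp only [Frame.Adm.mul_c, Frame.Adm.inv_c, Frame.Adm.smul_c, Frame.Adm.inv_w, Frame.Adm.smul_w, hrw, smul_zero,
        H.zero_left, neg_zero, mul_zero, sub_zero, hσu, hσs]
      have h6 : u * u * (s * s * r.c) + -(s * s * r.c) = ((u - 1) * s) * ((u - 1) * s) * r.c +
          2 * ((u - 1) * s * s * r.c) := by ring
      rw [h6, h2, hs, mul_inv_cancel₀ hu1]; ring
  have e : M.Z x p = M.Z x (Frame.Adm.smul u (Frame.Adm.smul s p) * (Frame.Adm.smul s p)⁻¹) *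
      M.Z x (Frame.Adm.smul u (Frame.Adm.smul s r) * (Frame.Adm.smul s r)⁻¹) := by
    rw [hr2, ← Z_mul, hr]
    congr 1
    group
  rw [e]
  exact mul_mem (hcom _) (hcom _)

end Z

/-! ### Nodes of type `X` -/

/-- the Weyl element of type I -/
def kX (x y : Fin n × Bool) (t : F) : K := M.φ ⟨nX Fr x y t, mul_mem (mul_mem (M.hX _ _ _) (M.hX _ _ _)) (M.hX _ _ _)⟩

theorem kX_eq (x y : Fin n × Bool) (t : F) :
    ∃ a b c, kX M x y t = M.X x y a * M.X (neg y) (neg x) b * M.X x y c := by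
  refine ⟨t, -t⁻¹, t, ?_⟩
  unfold kX Model.X
  rw [← map_mul, ← map_mul]
  rfl

section X

variable {x y : Fin n × Bool} (hxy : x.1 ≠ y.1) {z z' : Fin n → ℤ} (ez : ee z = wt x + wt y)
  (ez' : ee z' = wt (neg x) + wt (neg y))

include hxy ez ez' in
theorem kX_mem {L : Subgroup K} (h1 : Nodes.WittModel.X M z ≤ L) (h2 : Nodes.WittModel.X M z' ≤ L) (t : F) :
    kX M x y t ∈ L := by
  obtain ⟨a, b, c, e⟩ := kX_eq M x y t
  rw [e]
  exact mul_mem (mul_mem (h1 (X_mem M hxy ez _))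
    (h2 (X_mem M (a := neg y) (b := neg x) hxy.symm (by rw [ez', add_comm]) _))) (h1 (X_mem M hxy ez _))

include hxy ez ez' in
/-- **The nodes of type `X`.** -/
theorem perf_X (h2 : (2 : F) = 0) {t : F} (ht0 : t ≠ 0) (ht : t ≠ 1) :
    Nodes.WittModel.X M z ≤ ⁅Nodes.WittModel.X M z ⊔ Nodes.WittModel.X M z',
      Nodes.WittModel.X M z ⊔ Nodes.WittModel.X M z'⁆ := by
  set L : Subgroup K := Nodes.WittModel.X M z ⊔ Nodes.WittModel.X M z' with hL
  obtain ⟨g, hg⟩ : ∃ g, g = kX M x y t * kX M x y 1 := ⟨_, rfl⟩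
  have hgL : g ∈ L := by
    rw [hg]
    exact mul_mem (kX_mem M hxy ez ez' le_sup_left le_sup_right _) (kX_mem M hxy ez ez' le_sup_left le_sup_right _)
  have c1 : ∀ s, kX M x y 1 * M.X x y s * (kX M x y 1)⁻¹ = M.X (neg y) (neg x) (-((1 : F)⁻¹ ^ 2 * s)) := by
    intro s
    unfold kX Model.X
    rw [← map_mul, ← map_inv, ← map_mul]
    exact congrArg M.φ (Subtype.ext (nX_conj_X Fr hxy one_ne_zero s))
  have c2 : ∀ s, kX M x y t * M.X (neg y) (neg x) s * (kX M x y t)⁻¹ = M.X x y (-(t ^ 2 * s)) := by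
    intro s
    unfold kX Model.X
    rw [← map_mul, ← map_inv, ← map_mul]
    exact congrArg M.φ (Subtype.ext (nX_conj_X_neg Fr hxy ht0 s))
  have key : ∀ s, g * M.X x y s * g⁻¹ = M.X x y (t ^ 2 * s) := by
    intro s
    have h3 : g * M.X x y s * g⁻¹ = kX M x y t * (kX M x y 1 * M.X x y s * (kX M x y 1)⁻¹) * (kX M x y t)⁻¹ := by
      rw [hg]; group
    rw [h3, c1, c2]
    congr 1
    rw [inv_one]; ring
  have ht2 : t ^ 2 - 1 ≠ 0 := by
    have : t ^ 2 - 1 = (t - 1) ^ 2 + 2 * (t - 1) := by ring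
    rw [this, h2, zero_mul, add_zero]
    exact pow_ne_zero _ (sub_ne_zero.2 ht)
  intro k hk
  obtain ⟨s, rfl⟩ := (mem_XK M hxy ez).1 hk
  have e : M.X x y s = ⁅g, M.X x y ((t ^ 2 - 1)⁻¹ * s)⁆ := by
    rw [commutatorElement_def, key, eq_mul_inv_iff_mul_eq, ← X_add]
    congr 1
    field_simp
    ring
  rw [e]
  exact Subgroup.commutator_mem_commutator hgL ((le_sup_left : _ ≤ L) (X_mem M hxy ez _))

end X

/-! ### The simple nodes -/

/-- the last node -/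
theorem perf_last (h2 : (2 : F) = 0) {p0 : Fr.Adm} (hw : p0.w = 0) (hc : p0.c ≠ 0) {a : F} (ha0 : a ≠ 0)
    (ha : a * H.σ a ≠ 1) {i : Fin n} (hi : ¬ (i : ℕ) + 1 < n) :
    Nodes.WittModel.X M (sr i) ≤ ⁅Nodes.WittModel.X M (sr i) ⊔ Nodes.WittModel.X M (-sr i),
      Nodes.WittModel.X M (sr i) ⊔ Nodes.WittModel.X M (-sr i)⁆ := by
  have hnx : nx i = (i, true) := by unfold nx; rw [dif_neg hi]
  refine perf_Z M (x := (i, true)) ?_ ?_ h2 hw hc ha0 ha
  · have := ee_sr i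
    rw [bt, hnx] at this
    exact this
  · have := Nodes.WittRGD.ee_neg_sr i
    rw [hnx] at this
    exact this

/-- the other nodes -/
theorem perf_ne (h2 : (2 : F) = 0) {t : F} (ht0 : t ≠ 0) (ht : t ≠ 1) {i : Fin n} (hi : (i : ℕ) + 1 < n) :
    Nodes.WittModel.X M (sr i) ≤ ⁅Nodes.WittModel.X M (sr i) ⊔ Nodes.WittModel.X M (-sr i),
      Nodes.WittModel.X M (sr i) ⊔ Nodes.WittModel.X M (-sr i)⁆ := by
  have hnx : nx i = (⟨i + 1, hi⟩, false) := by unfold nx; rw [dif_pos hi]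
  have hne : ((i, true) : Fin n × Bool).1 ≠ (nx i).1 := by rw [hnx]; simp [Fin.ext_iff]
  exact perf_X M (x := (i, true)) (y := nx i) hne (ee_sr i) (Nodes.WittRGD.ee_neg_sr i) h2 ht0 ht

/-! ### Unitary and symplectic groups -/

section Families

open Cfsg.Agent.TitsThree.WBridge Cfsg.Agent.TitsThree.KSideU Cfsg.Agent.TitsThree.SiegelGen

/-- an element of norm `≠ 0, 1` in `𝔽_{q²}`, `q ≥ 3` -/
theorem exists_norm {F : Type*} [Field F] [Fintype F] {q : ℕ} (hF : Fintype.card F = q ^ 2) (hq : 3 ≤ q) :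
    ∃ a : F, a ≠ 0 ∧ a * a ^ q ≠ 1 := by
  classical
  obtain ⟨g, hg⟩ := IsCyclic.exists_generator (α := Fˣ)
  refine ⟨(g : F), g.ne_zero, fun h => ?_⟩
  have h1 : g ^ (q + 1) = 1 := by
    ext
    rw [Units.val_pow_eq_pow_val, pow_succ, mul_comm, h, Units.val_one]
  have h2 : orderOf g ∣ q + 1 := orderOf_dvd_of_pow_eq_one h1
  have h3 : orderOf g = q ^ 2 - 1 := by
    rw [orderOf_eq_card_of_forall_mem_zpowers hg, Nat.card_eq_fintype_card, Fintype.card_units, hF]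
  have h4 := Nat.le_of_dvd (by omega) h2
  rw [h3] at h4
  have h5 : 3 * q ≤ q ^ 2 := by nlinarith
  omega

theorem exists_ne_one {F : Type*} [Field F] [Finite F] (h : 3 ≤ Nat.card F) : ∃ a : F, a ≠ 0 ∧ a ≠ 1 := by
  classical
  have := Fintype.ofFinite F
  by_contra hcon
  push Not at hcon
  have h1 : (Finset.univ : Finset F) ⊆ {0, 1} := by
    intro a _
    by_cases ha : a = 0
    · simp [ha]
    · simp [hcon a ha]
  have h2 := Finset.card_le_card h1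
  have h3 : ({0, 1} : Finset F).card ≤ 2 := Finset.card_le_two
  rw [Finset.card_univ, ← Nat.card_eq_fintype_card] at h2
  omega

/-- **Unitary groups**, the last node, `q ≥ 4`. -/
theorem perf_U_last {F : Type*} [Field F] [Fintype F] {q N m : ℕ} (hF : Fintype.card F = q ^ 2) (hN : 3 ≤ N)
    (W : WFrame (PU hF N) m) (h2 : (2 : F) = 0) (hq : 3 ≤ q) {i : Fin m} (hi : ¬ (i : ℕ) + 1 < m) :
    Nodes.WittModel.X (KInstU.model hF hN W) (sr i) ≤
      ⁅Nodes.WittModel.X (KInstU.model hF hN W) (sr i) ⊔ Nodes.WittModel.X (KInstU.model hF hN W) (-sr i),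
      Nodes.WittModel.X (KInstU.model hF hN W) (sr i) ⊔ Nodes.WittModel.X (KInstU.model hF hN W) (-sr i)⁆ := by
  obtain ⟨p0, hc, hw⟩ := Nodes.WittU.exists_adm hF W
  obtain ⟨a, ha0, ha⟩ := exists_norm hF hq
  exact perf_last _ h2 hw hc ha0 ha hi

/-- **Unitary groups**, the other nodes. -/
theorem perf_U_ne {F : Type*} [Field F] [Fintype F] {q N m : ℕ} (hF : Fintype.card F = q ^ 2) (hN : 3 ≤ N)
    (W : WFrame (PU hF N) m) (h2 : (2 : F) = 0) (hq : 2 ≤ q) {i : Fin m} (hi : (i : ℕ) + 1 < m) :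
    Nodes.WittModel.X (KInstU.model hF hN W) (sr i) ≤
      ⁅Nodes.WittModel.X (KInstU.model hF hN W) (sr i) ⊔ Nodes.WittModel.X (KInstU.model hF hN W) (-sr i),
      Nodes.WittModel.X (KInstU.model hF hN W) (sr i) ⊔ Nodes.WittModel.X (KInstU.model hF hN W) (-sr i)⁆ := by
  obtain ⟨t, ht0, ht⟩ := exists_ne_one (F := F) (by
    rw [Nat.card_eq_fintype_card, hF]
    nlinarith)
  exact perf_ne _ h2 ht0 ht hi

/-- **Symplectic groups**, all nodes, `q ≥ 4`. -/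
theorem perf_Sp {F : Type*} [Field F] [Finite F] {m : ℕ} (h2 : (2 : F) = 0) (hq : 3 ≤ Nat.card F) (i : Fin m) :
    Nodes.WittModel.X (KInstSp.model m F) (sr i) ≤
      ⁅Nodes.WittModel.X (KInstSp.model m F) (sr i) ⊔ Nodes.WittModel.X (KInstSp.model m F) (-sr i),
      Nodes.WittModel.X (KInstSp.model m F) (sr i) ⊔ Nodes.WittModel.X (KInstSp.model m F) (-sr i)⁆ := by
  obtain ⟨t, ht0, ht⟩ := exists_ne_one hq
  by_cases hi : (i : ℕ) + 1 < m
  · exact perf_ne _ h2 ht0 ht hi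
  · refine perf_last _ h2 (p0 := SpIdent.adm 1) rfl one_ne_zero ht0 ?_ hi
    change t * t ≠ 1
    intro h
    have h3 : (t - 1) ^ 2 = 0 := by
      have : (t - 1) ^ 2 = t * t - 1 - 2 * (t - 1) := by ring
      rw [this, h, h2]; ring
    exact ht (sub_eq_zero.1 (pow_eq_zero_iff two_ne_zero |>.1 h3))

end Families

end Cfsg.Agent.Omega.ML.Ex.Lie2.PerfU

end
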