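import Cfsg.Agent.Mrg.Omega.ML.Ex.Lie2.Def
import Cfsg.Agent.Mrg.Omega.ML.Ex.WallX
import Cfsg.Agent.Mrg.Omega.ML.Ex.KnownDone
import Cfsg.Agent.Mrg.Omega.ML.Ex.Typ.Frame
import Cfsg.Agent.Mrg.Omega.ML.Ex.Wall
import Cfsg.Agent.Omega.ML.LieRow.SzSplit
import Cfsg.Agent.S0320
import Cfsg.Agent.Mrg.Omega.ML.Ex.Typ.List
import Cfsg.Agent.Nodes.RGDTwE6

section


/-!
# The WALL THEOREM over root group data (helper721)

* `good_transfer` : `WallGood.Good` does not depend on the Coxeter system of the matrix;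
* `frameN` : `Typ.frameR` with `δ c0 (n i • c0) = s_i`;
* `card_pan` : `|X (α_i)|` is the number of chambers `y` with `δ c0 y = s_i`;
* **`wallT`** : the socket `WallT` of `Lie2/Def.lean`.
-/

set_option autoImplicit false
set_option linter.unusedSectionVars false

namespace Cfsg.Agent.Omega.ML.Ex.Lie2

open Subgroup CoxeterSystem Cfsg.Agent.ChevalleyStructure.CoxeterGeom Cfsg.Agent.Tits.Roots Cfsg.Agent.Tits.Core
  Cfsg.Agent.Tits.Core.Bldg
  Cfsg.Agent.Tits.RootComb Cfsg.Agent.Nodes.Comb Cfsg.Agent.Nodes.Reps Cfsg.Agent.Nodes.BNOf Cfsg.Agent.FixBN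
  Cfsg.Agent.Omega.ML.LieRow Cfsg.Agent.Tits.OfBN Cfsg.Agent.LieExceptional.BNPairCore

universe u v

section transfer

variable {I W W' : Type*} [Group W] [Group W'] {M : CoxeterMatrix I}

theorem WJ_transfer {cs : CoxeterSystem M W} {cs' : CoxeterSystem M W'} (e : W ≃* W')
    (he : ∀ i, e (cs.simple i) = cs'.simple i) {J : Set I} {w : W} (hw : w ∈ WJ cs J) : e w ∈ WJ cs' J := by
  have h1 : WJ cs J ≤ (WJ cs' J).comap e.toMonoidHom := by
    unfold WJ
    rw [Subgroup.closure_le]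
    rintro _ ⟨i, hi, rfl⟩
    change e (cs.simple i) ∈ Subgroup.closure (cs'.simple '' J)
    rw [he]
    exact Subgroup.subset_closure ⟨i, hi, rfl⟩
  exact h1 hw

/-- `Good` does not depend on the Coxeter system. -/
theorem good_transfer (cs : CoxeterSystem M W) (cs' : CoxeterSystem M W') {J : Set I} {LL : Set I → Prop} {i : I}
    (h : WallGood.Good cs J LL i) : WallGood.Good cs' J LL i := by
  obtain ⟨e, he⟩ : ∃ e : W ≃* W', ∀ i, e (cs.simple i) = cs'.simple i := by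
    exact ⟨cs.mulEquiv.trans cs'.mulEquiv.symm, fun i =>
      congrArg cs'.mulEquiv.symm (cs.mulEquiv.apply_symm_apply (PresentedGroup.of i : M.Group))⟩
  have he' : ∀ i, e.symm (cs'.simple i) = cs.simple i := fun i => by rw [← he, MulEquiv.symm_apply_apply]
  intro w hw j hj
  obtain ⟨v, hv, L, hL, l, hl, k, hk, h1⟩ := h (e.symm w) (WJ_transfer e.symm he' hw) j hj
  refine ⟨e v, WJ_transfer e he hv, L, hL, e l, WJ_transfer e he hl, k, hk, ?_⟩
  have h2 := congrArg e h1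
  simp only [map_mul, map_inv, he, MulEquiv.apply_symm_apply] at h2
  exact h2

end transfer

section frame

variable {I W : Type*} [Fintype I] [DecidableEq I] [Group W] {M : CoxeterMatrix I}
  {cs : CoxeterSystem M W} {A : I → I → ℤ} {h : IsCartan M A}

/-- **The building frame of a root group datum**, with the positions of the `n i`. -/
theorem frameN [Finite W] [Nonempty I] {H : Type u} [Group H] [Finite H] {K : Subgroup H} (hK : K.Normal)
    [IsSimpleGroup K] {Tor : Subgroup K} {n : I → K} {X : (I → ℤ) → Subgroup K} (R : RGD cs h 2 Tor n X)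
    (hG1 : Nodes.RGDLib.G1 cs h X = ⊤) :
    ∃ (F : Typ.Frame K M), letI := F.gW; letI := F.act; ∃ c0 : F.C, F.S.U c0 = RGD.Sup X (RGD.Pos cs h) ∧
      (∀ i, F.Δ.δ c0 (n i • c0) = F.cs.simple i) ∧
      ∀ P : Subgroup K, RGD.Sup X (RGD.Pos cs h) ≤ P → ∀ i, i ∈ tp F.Δ P c0 ↔ X (-sr i) ≤ P := by
  have : Fact (Nat.Prime 2) := ⟨Nat.prime_two⟩
  have hgen : RGD.B cs h Tor X ⊔ NN cs R.nsys = ⊤ := by
    rw [eq_top_iff, ← hG1]
    exact Nodes.RGDLib.rgd_G1_le R
  obtain ⟨i₀⟩ := (inferInstance : Nonempty I)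
  have hne : (R.bnPair hgen).S.Nonempty := ⟨n i₀, i₀, rfl⟩
  have hP := SplitRGD.split_of_rgd Nat.prime_two R hgen
    (Cfsg.Agent.Tits.OfBN.normalCore_eq_bot (R.bnPair hgen) hne)
  obtain ⟨e, hen, hN, cs', hcs⟩ : ∃ e : I ≃ (R.bnPair hgen).S, (∀ i, (e i : K) = n i) ∧ BNType (R.bnPair hgen) M e :=
    ⟨Equiv.ofInjective n R.n_injective, fun _ => rfl, Typ.bnType R hgen⟩
  have hth := thick (R.bnPair hgen) e cs' hcs
  obtain ⟨A'⟩ := exists_hact (OfBN.sys e cs' hcs hP) hth (fun τ => UGT.U2.FOne.exists_mv hP e cs' hcs τ)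
  have key : ∀ g : K, (bldg (R.bnPair hgen) e cs' hcs).δ (QuotientGroup.mk 1) (g • QuotientGroup.mk 1) =
      wt (R.bnPair hgen) g := by
    intro g
    have h1 : g • (QuotientGroup.mk 1 : K ⧸ (R.bnPair hgen).B) = QuotientGroup.mk (g * 1) := rfl
    rw [h1, bldg_δ_mk, inv_one, one_mul, mul_one]
  refine ⟨⟨WP (R.bnPair hgen), inferInstance, cs', K ⧸ (R.bnPair hgen).B, inferInstance, _,
    OfBN.sys e cs' hcs hP, A', hth, inferInstance, ⟨QuotientGroup.mk 1⟩, inferInstance⟩, QuotientGroup.mk 1, ?_, ?_, ?_⟩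
  · ext x
    change x ∈ OfBN.UU (R.bnPair hgen) _ (QuotientGroup.mk 1) ↔ _
    rw [OfBN.mem_UU hP]
    have h1 : (1 : K)⁻¹ * x * 1 = x := by group
    rw [h1]
  · intro i
    refine (key (n i)).trans ?_
    change _ = cs'.simple i
    rw [hcs]
    exact wt_of_mem _ (mem_C.2 ⟨1, one_mem _, 1, one_mem _, by rw [hen i]; group⟩)
  · intro P hUP i
    rw [Typ.neg_le_iff R hUP i]
    constructor
    · rintro ⟨g, hg, hgi⟩
      refine ⟨g, hg, ?_⟩
      have h1 : wt (R.bnPair hgen) g = cs'.simple i := (key g).symm.trans hgi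
      rw [hcs] at h1
      obtain ⟨b, hb, b', hb', h2⟩ := mem_C.1 (mem_C_of_wt _ h1)
      exact ⟨b, hb, b', hb', by rw [← hen i]; exact h2⟩
    · rintro ⟨g, hg, b, hb, b', hb', e1⟩
      refine ⟨g, hg, ?_⟩
      have h1 : wt (R.bnPair hgen) g = cs'.simple i := by
        rw [hcs]
        exact wt_of_mem _ (mem_C.2 ⟨b, hb, b', hb', by rw [hen i]; exact e1⟩)
      exact (key g).trans h1

variable {K : Type*} [Group K] {W' : Type*} [Group W'] {cs' : CoxeterSystem M W'} {C : Type*} {Δ : Bldg cs' C}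
  [MulAction K C] (S : Sys Δ K 2) {Tor : Subgroup K} {n : I → K} {X : (I → ℤ) → Subgroup K}
  [Cfsg.Agent.Tits.OppRes.Cox cs']

theorem exists_mul_of_mem_sup {Y : Type*} [Group Y] {P Q : Subgroup Y} (hPQ : P ≤ Subgroup.normalizer (Q : Set Y))
    {x : Y} (hx : x ∈ P ⊔ Q) : ∃ a ∈ P, ∃ b ∈ Q, x = a * b := by
  refine Subgroup.closure_induction (p := fun x _ => ∃ a ∈ P, ∃ b ∈ Q, x = a * b) ?_ ?_ ?_ ?_
    (Subgroup.sup_eq_closure P Q ▸ hx)
  · rintro x (h1 | h1)
    · exact ⟨x, h1, 1, one_mem _, (mul_one x).symm⟩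
    · exact ⟨1, one_mem _, x, h1, (one_mul x).symm⟩
  · exact ⟨1, one_mem _, 1, one_mem _, (mul_one 1).symm⟩
  · rintro _ _ - - ⟨a, ha, b, hb, rfl⟩ ⟨a', ha', b', hb', rfl⟩
    refine ⟨a * a', mul_mem ha ha', (a'⁻¹ * b * a') * b', mul_mem ?_ hb', by group⟩
    have h1 := (Subgroup.mem_normalizer_iff.1 (hPQ (inv_mem ha')) b).1 hb
    rwa [inv_inv] at h1
  · rintro _ - ⟨a, ha, b, hb, rfl⟩
    refine ⟨a⁻¹, inv_mem ha, a * b⁻¹ * a⁻¹, ?_, by group⟩
    exact (Subgroup.mem_normalizer_iff.1 (hPQ ha) b⁻¹).1 (inv_mem hb)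

/-- `X (-α_i) ⊓ U = 1` -/
theorem neg_inf [Finite W] (R : RGD cs h 2 Tor n X) {i : I} {x : K} (hx : x ∈ X (-sr i))
    (hxU : x ∈ RGD.Sup X (RGD.Pos cs h)) : x = 1 := by
  by_contra hx1
  obtain ⟨a, ha, t, ht, b, hb, e⟩ := R.rk1 i x hx hx1
  have h1 : n i ∈ RGD.B cs h Tor X := by
    have h2 : n i = t⁻¹ * (a⁻¹ * x * b⁻¹) := by rw [e]; group
    rw [h2]
    refine mul_mem (inv_mem (RGD.T_le_B ht)) (mul_mem (mul_mem ?_ (RGD.U_le_B hxU)) ?_)
    · exact inv_mem (RGD.X_le_B (isRoot_sr cs h i) (sr_nonneg i) ha)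
    · exact inv_mem (RGD.X_le_B (isRoot_sr cs h i) (sr_nonneg i) hb)
  have h2 := R.eq_one_of_mem_B (rp_simple cs R.nsys i) h1
  have h3 := orderOf_eq_one_iff.2 h2
  have h4 : (cs.simple i) ≠ 1 := by
    intro h5
    have h6 := cs.length_simple i
    rw [h5, cs.length_one] at h6
    omega
  exact h4 h2

include S in
/-- the number of chambers of a panel -/
theorem card_pan [Finite W] (R : RGD cs h 2 Tor n X) {c : C} (hU : S.U c = RGD.Sup X (RGD.Pos cs h))
    (hn : ∀ i, Δ.δ c (n i • c) = cs'.simple i) (i : I) :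
    Nat.card (X (sr i)) = Nat.card {y : C // Δ.δ c y = cs'.simple i} := by
  have hXU : X (sr i) ≤ S.U c := by
    rw [hU]
    exact RGD.le_Sup (S := RGD.Pos cs h) ⟨isRoot_sr cs h i, sr_nonneg i⟩
  refine Nat.card_congr (Equiv.ofBijective (fun x => ⟨(x : K) • (n i • c), ?_⟩) ⟨?_, ?_⟩)
  · have h1 : Δ.δ ((x : K) • c) ((x : K) • (n i • c)) = cs'.simple i := by rw [S.iso, hn]
    rwa [S.fix c _ (hXU x.2)] at h1
  · rintro ⟨x, hx⟩ ⟨y, hy⟩ hxy
    have h1 : x • (n i • c) = y • (n i • c) := congrArg Subtype.val hxy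
    have h2 : (y⁻¹ * x) • (n i • c) = n i • c := by rw [mul_smul, h1, inv_smul_smul]
    have hz : y⁻¹ * x ∈ X (sr i) := mul_mem (inv_mem hy) hx
    have h3 := S.mem_U_of_fix (hXU hz) h2
    have h4 : n i * ((n i)⁻¹ * (y⁻¹ * x) * n i) * (n i)⁻¹ ∈ S.U (n i • c) := by
      have e : n i * ((n i)⁻¹ * (y⁻¹ * x) * n i) * (n i)⁻¹ = y⁻¹ * x := by group
      rwa [e]
    have h5 := S.conj_mem_U_iff.1 h4
    rw [hU] at h5
    have h6 : (n i)⁻¹ * (y⁻¹ * x) * n i ∈ X (-sr i) := by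
      have := R.conj_mem' (rp_simple cs R.nsys i) (isRoot_sr cs h i) hz
      rwa [inv_simple, rep_simple_sr] at this
    have h7 := neg_inf R h6 h5
    apply Subtype.ext
    have h8 : y⁻¹ * x = 1 := by
      have e : y⁻¹ * x = n i * ((n i)⁻¹ * (y⁻¹ * x) * n i) * (n i)⁻¹ := by group
      rw [e, h7, mul_one, mul_inv_cancel]
    exact (inv_mul_eq_one.1 h8).symm
  · rintro ⟨y, hy⟩
    obtain ⟨u, hu, huy⟩ := S.exists_move ((hn i).trans hy.symm)
    rw [hU, R.Upos_eq i] at hu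
    obtain ⟨x, hx, v, hv, rfl⟩ := exists_mul_of_mem_sup (R.X_le_normalizer_V i) hu
    refine ⟨⟨x, hx⟩, Subtype.ext ?_⟩
    change x • (n i • c) = y
    rw [← huy, mul_smul]
    congr 1
    -- `v` fixes `n i • c`
    have h1 : (n i)⁻¹ * v * n i ∈ RGD.Sup X (RGD.PosNe cs h i) := by
      have h2 := R.cj_n_V i
      rw [← h2] at hv
      obtain ⟨w, hw, rfl⟩ := hv
      have e : (n i)⁻¹ * ((MulAut.conj (n i)).toMonoidHom w) * n i = w := by
        change (n i)⁻¹ * (n i * w * (n i)⁻¹) * n i = w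
        group
      rw [e]
      exact hw
    have h2 : (n i)⁻¹ * v * n i ∈ S.U c := by
      rw [hU, R.Upos_eq i]
      exact (le_sup_right : _ ≤ X (sr i) ⊔ RGD.Sup X (RGD.PosNe cs h i)) h1
    have h3 := S.fix c _ h2
    have h4 : n i • (((n i)⁻¹ * v * n i) • c) = v • (n i • c) := by
      rw [← mul_smul, ← mul_smul]
      congr 1
      group
    rw [← h4, h3]

end frame

/-- **The WALL THEOREM, socket of `Lie2/Def.lean`.** -/
theorem wallT : WallT.{u, v} := by
  intro X _ _ M _ _ _ K T B m l Mx Ac h Tor n Xr hl hI hL hR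
  have hKn := hI.norm
  have hKs := hI.simple
  have hfin : Finite Mx.Group := hR.fin
  have hne : Nonempty (Fin l) := ⟨⟨0, hl⟩⟩
  obtain ⟨F, hF⟩ := frameN hKn hR.rgd hR.gen
  obtain ⟨W, gW, cs, C, act, Δ, S, A, hth, hfC, hnC, hfW⟩ := F
  obtain ⟨c, hU, hn, htp⟩ := hF
  change S.U c = _ at hU
  change ∀ i, Δ.δ c (n i • c) = cs.simple i at hn
  change ∀ P : Subgroup K, _ → ∀ i, i ∈ tp Δ P c ↔ _ at htp
  have hUT : S.U c = T.subgroupOf K := hU.trans hR.syl
  have hc : ∀ t ∈ T, A.θ t c = c := by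
    obtain ⟨c', hc', hUc'⟩ := exists_chamber A S hth hI.two hI.syl
    have h3 : c' = c := UGT.U2.FOne.U_inj S hth (hUc'.trans hUT.symm)
    rw [← h3]
    exact hc'
  have hJm : tp Δ ((MulAction.stabilizer X m).subgroupOf K) c = Jm Xr m := by
    ext i
    rw [htp _ ?_ i]
    · exact Iff.rfl
    · rw [hR.syl]
      exact fun x hx => hL.fix x hx
  obtain ⟨hJ, -, i, hi, hk, hb⟩ := Wall.movers A S hI hL hth hc hUT
  have htr := Wall.not_trans_of_nmax A S hth hc hUT hI.gen hI.nmax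
  rw [hJm] at hJ hi hk hb
  refine ⟨A.σ, ⟨A.σ_one, A.σ_mul, WallSig.sig_M A, ?_, ?_⟩, fun t _ j hj => hJ t j hj, i, hi, hk,
    fun hg => hb i hi ?_⟩
  · -- the cardinalities
    intro g j
    obtain ⟨k, t, ht, rfl⟩ := exists_kt A S hI.gen g
    rw [A.σ_mul, A.σ_K S, card_pan S hR.rgd hU hn, card_pan S hR.rgd hU hn]
    symm
    refine Nat.card_congr (Equiv.ofBijective (fun y => ⟨A.θ t y, ?_⟩) ⟨?_, ?_⟩)
    · have h1 := A.δ_θ t c y
      rw [hc t ht, y.2, A.φ_simple] at h1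
      exact h1
    · rintro ⟨y, hy⟩ ⟨z, hz⟩ hyz
      exact Subtype.ext (A.θ_inj t (congrArg Subtype.val hyz))
    · rintro ⟨y, hy⟩
      refine ⟨⟨A.θ t⁻¹ y, ?_⟩, Subtype.ext (A.θ_θ_inv t y)⟩
      have h1 := A.δ_θ t⁻¹ c y
      rw [hc _ (inv_mem ht), hy, A.φ_simple, A.σ_inv_σ] at h1
      exact h1
  · -- a proper invariant set
    obtain ⟨L, hL1, hL2, hL3⟩ := Wall.exists_orbit A S hI.gen htr ⟨0, hl⟩
    exact ⟨L, ⟨_, hL3⟩, hL2, fun t _ i hi => hL1 t i hi⟩
  · have hg' := good_transfer Mx.toCoxeterSystem cs hg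
    intro v hv j hj
    obtain ⟨a, ha, L, ⟨hLu, hL'⟩, l', hl', k, hk', e⟩ := hg' v hv j hj
    refine ⟨L, inv_of_T A S hI.gen hL', hLu, a, ha, l', hl', k, hk', ?_⟩
    rw [e]
    group

end Cfsg.Agent.Omega.ML.Ex.Lie2

end

section


/-!
# `T` is not transitive on the nodes: the corollaries (helper218)

Over `InX X M K T A` (only the field `nmax` matters, (LA) and the W-part are not used):

* `not_trans`, `two` : for a building frame `F` of `K`, `T` is not transitive on the nodes; there is a nonempty proper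
  `T`-invariant set of nodes;
* `false_of_subsingleton` : `K` has no building frame of rank one;
* **`false_of_rgd_one`, `false_of_rf_one`** : `K` has no root group datum of rank one (`L_2(q)`, `U_3(q)`, ...);
* **`deadX_suz`, `deadXL_suz`** : the row of the Suzuki groups;
* `two_le` : the rank is at least two;  `fix_of_two` : rank two: `T` fixes both nodes (so `B_2`, `G_2` with a graph automorphism are out).
-/

set_option autoImplicit false
set_option linter.unusedSectionVars false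

namespace Cfsg.Agent.Omega.ML.Ex.Lie2.RankOne

open Subgroup Cfsg Cfsg.Agent.Omega.ML.Ex
open Cfsg.Agent.Tits.Core Cfsg.Agent.Tits.Exchange Cfsg.Agent.Tits.OfBN Cfsg.Agent.Schreier.BNSch
open Cfsg.Agent.FixBN Cfsg.Agent.FixBN.Cox Cfsg.Agent.Omega.ML.LieRow

universe u v w

section frame

variable {X : Type u} [Group X] [Finite X] {M : Type v} [Group M] [MulDistribMulAction X M] {K T A : Subgroup X}

/-- **`T` is not transitive on the nodes.** -/
theorem not_trans (h : InX X M K T A) {I : Type*} [Finite I] [Nonempty I] {Mx : CoxeterMatrix I} (F : Typ.Frame K Mx) :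
    letI := F.gW; letI := F.act; ¬ ∀ i j : I, ∃ t ∈ T, F.A.σ t i = j := by
  have hKn := h.norm
  have hKs := h.simple
  obtain ⟨W, gW, cs, C, act, Δ, S, B, hth, hfC, hnC, hfW⟩ := F
  obtain ⟨c, hc, hUc⟩ := exists_chamber B S hth h.two h.syl
  exact Wall.not_trans_of_nmax B S hth hc hUc h.gen h.nmax

/-- a nonempty proper invariant set of nodes -/
theorem two (h : InX X M K T A) {I : Type*} [Finite I] [Nonempty I] {Mx : CoxeterMatrix I} (F : Typ.Frame K Mx) :
    letI := F.gW; letI := F.act; ∃ L : Set I, L.Nonempty ∧ L ≠ Set.univ ∧ F.A.Inv L := by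
  have hKn := h.norm
  have hKs := h.simple
  have h1 := not_trans h F
  obtain ⟨W, gW, cs, C, act, Δ, S, B, hth, hfC, hnC, hfW⟩ := F
  obtain ⟨i₀⟩ := (inferInstance : Nonempty I)
  obtain ⟨L, h2, h3, h4⟩ := Wall.exists_orbit B S h.gen h1 i₀
  exact ⟨L, ⟨i₀, h4⟩, h3, h2⟩

/-- **Rank one, for frames.** -/
theorem false_of_subsingleton (h : InX X M K T A) {I : Type*} [Subsingleton I] [Nonempty I] {Mx : CoxeterMatrix I}
    (F : Typ.Frame K Mx) : False :=
  not_trans h F fun _ _ => ⟨1, one_mem _, Subsingleton.elim _ _⟩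

/-- rank one, for (B,N)-pairs -/
theorem false_of_split (h : InX X M K T A) {P : Cfsg.BNPair K} {U : Subgroup K} (hne : P.S.Nonempty)
    (hs : P.S.Subsingleton) (hP : Split P 2 U) : False := by
  have : Fact (Nat.Prime 2) := ⟨Nat.prime_two⟩
  have hKs := h.simple
  have hN : ((P.B ⊓ P.N).subgroupOf P.N).Normal := normal_subgroupOf P
  obtain ⟨Mx, cs, hcs⟩ := S0320.result P
  have hIn : Nonempty P.S := hne.to_subtype
  have hIs : Subsingleton P.S := ⟨fun a b => Subtype.ext (hs a.2 b.2)⟩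
  have h1 : Typ.HasSplitT 2 Mx K := ⟨P, U, Equiv.refl _, hP, hN, cs, hcs⟩
  obtain ⟨F⟩ := h1.frame h.norm
  exact false_of_subsingleton h F

/-- **Rank one, for root group data.** -/
theorem false_of_rgd_one (h : InX X M K T A) {Mx : CoxeterMatrix (Fin 1)} (hK : Typ.HasRGDT 2 Mx K) : False := by
  obtain ⟨F⟩ := hK.frame h.norm h.simple one_pos
  exact false_of_subsingleton h F

end frame

/-- the row of the simple groups with a root group datum of rank one -/
theorem deadX_rgd_one : DeadX.{u, v} fun S _ => ∃ Mx : CoxeterMatrix (Fin 1), Typ.HasRGDT 2 Mx S :=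
  fun _ _ _ _ _ _ _ _ _ _ h ⟨_, hK⟩ => false_of_rgd_one h hK

/-- **The row of the Suzuki groups.** -/
theorem deadX_suz : DeadX.{u, v} fun S _ => Lie.IsoSuzuki S := by
  intro X _ _ M _ _ _ K T A h hK
  obtain ⟨F, i1, i2, m, hm, hF, ⟨e⟩⟩ := hK
  have H := LieRecognition.SzMatrix.good hF
  have hs : IsSimpleGroup ↥(Cfsg.Lie.Sz F (2 ^ (m + 1))) := Cfsg.Agent.S1162.result hm hF
  have h1 := SzSplit.split hm hF H hs
  refine false_of_split h (P := Transport.mapBN e.symm (SzSplit.bnPair H)) ⟨e.symm H.w, H.w, rfl, rfl⟩ ?_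
    (Transport.split e.symm _ h1)
  rintro _ ⟨x, hx, rfl⟩ _ ⟨y, hy, rfl⟩
  have hx' : x = H.w := hx
  have hy' : y = H.w := hy
  rw [hx', hy']

/-- a row without the W-part and (LA) -/
theorem xl {𝒮 : ∀ (S : Type u) [Group S], Prop}
    (h : DeadX.{u, v} 𝒮) : DeadXL.{u, v, w} 𝒮 :=
  fun X _ _ M _ _ _ _ _ _ _ K T A _ _ hI _ _ hS => h X M K T A hI hS

theorem deadXL_suz : DeadXL.{u, v, w} fun S _ => Lie.IsoSuzuki S := xl deadX_suz

section rf

variable {X : Type u} [Group X] [Finite X] {M : Type v} [Group M] [MulDistribMulAction X M] {K T A : Subgroup X}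
  {l : ℕ} {Mx : CoxeterMatrix (Fin l)} {Ac : Fin l → Fin l → ℤ}
  {h : Cfsg.Agent.ChevalleyStructure.CoxeterGeom.IsCartan Mx Ac} {Tor : Subgroup K}
  {n : Fin l → K} {Xr : (Fin l → ℤ) → Subgroup K}

theorem hasRGDT {Y : Type*} [Group Y] {Tor : Subgroup Y} {n : Fin l → Y} {Xr : (Fin l → ℤ) → Subgroup Y}
    (hR : Rg h Tor n Xr) : Typ.HasRGDT 2 Mx Y := ⟨Ac, h, Tor, n, Xr, hR.fin, hR.rgd, hR.gen⟩

/-- **the rank is at least two** -/
theorem two_le (hI : InX X M K T A) (hl : 0 < l) (hR : RF K T h Tor n Xr) : 2 ≤ l := by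
  by_contra h1
  obtain rfl : l = 1 := by omega
  exact false_of_rgd_one hI (hasRGDT hR.toRg)

/-- rank two: both nodes are fixed -/
theorem fix_of_two (hl : l = 2) {σ : X → Fin l → Fin l} (hs : Sg T Mx Xr σ) : ∀ t ∈ T, ∀ i, σ t i = i := by
  subst hl
  obtain ⟨L, ⟨i, hi⟩, hLu, hL⟩ := hs.two
  have hinj : ∀ t, Function.Injective (σ t) := by
    intro t a b hab
    have h1 := congrArg (σ t⁻¹) hab
    rwa [← hs.mul, ← hs.mul, inv_mul_cancel, hs.one, hs.one] at h1
  have h2 : ∀ j, j ≠ i → j ∉ L := by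
    intro j hj hjL
    apply hLu
    rw [Set.eq_univ_iff_forall]
    intro k
    rcases eq_or_ne k i with rfl | hk
    · exact hi
    · have : k = j := by omega
      rwa [this]
  have h3 : ∀ t ∈ T, σ t i = i := by
    intro t ht
    by_contra h4
    exact h2 _ h4 (hL t ht i hi)
  intro t ht j
  rcases eq_or_ne j i with rfl | hj
  · exact h3 t ht
  · have h4 : σ t j ≠ i := by
      intro h5
      exact hj (hinj t (h5.trans (h3 t ht).symm))
    omega

end rf

end Cfsg.Agent.Omega.ML.Ex.Lie2.RankOne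

end

section


/-!
# The row `lie2`: data of `²E₆(q)` (helper949)

`G ≃ ²E₆(q)`, `q` even: a root group datum of type `F₄` with generation, `|X₀| ≠ |X₃|` (the orders are at most `q` and
at least `q²`).
-/

set_option autoImplicit false

namespace Cfsg.Agent.Omega.ML.Ex.Lie2.DatE6

open Cfsg Cfsg.Lie
open CoxeterSystem Cfsg.Agent.ChevalleyStructure.CoxeterGeom Cfsg.Agent.Tits.Roots Cfsg.Agent.Tits.Core
  Cfsg.Agent.Nodes.BNOf Cfsg.Agent.Nodes.RGDLib
open Cfsg.Agent.ChevalleyStructure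
open Cfsg.Agent.ChevalleyStructure.TwE6Basic (posE negE sg fix n exists_frob twisted_le_fix mem_fix x_injective x_add
  sg_x_class pair_mem)
open Cfsg.Agent.ChevalleyStructure.TwE6BN (rs x_mem_rs rs_single)

universe u

/-- a root group datum of characteristic two and type `F₄`, with generation and `|X₀| ≠ |X₃|` -/
def HasNe (G : Type*) [Group G] : Prop :=
  ∃ (A : Fin 4 → Fin 4 → ℤ) (h : IsCartan CoxeterMatrix.F₄ A) (T : Subgroup G) (n : Fin 4 → G)
    (X : (Fin 4 → ℤ) → Subgroup G), Rg h T n X ∧ Nat.card (X (sr 0)) ≠ Nat.card (X (sr 3))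

theorem HasNe.of_equiv {G H : Type*} [Group G] [Group H] (e : G ≃* H) (hG : HasNe G) : HasNe H := by
  obtain ⟨A, h, T, n, X, R, hc⟩ := hG
  refine ⟨A, h, T.map e.toMonoidHom, fun i => e (n i), fun x => (X x).map e.toMonoidHom,
    ⟨R.fin, rgd_map_of_injective R.rgd e.toMonoidHom e.injective, ?_⟩, ?_⟩
  · have h1 : (RGD.Sup X {x | IsRoot CoxeterMatrix.F₄.toCoxeterSystem h x}).map e.toMonoidHom =
        RGD.Sup (fun x => (X x).map e.toMonoidHom) {x | IsRoot CoxeterMatrix.F₄.toCoxeterSystem h x} := by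
      unfold RGD.Sup
      rw [Subgroup.map_iSup]
    rw [← h1, R.gen, Subgroup.map_top_of_surjective _ e.surjective]
  · have h2 : ∀ Y : Subgroup G, Nat.card (Y.map e.toMonoidHom) = Nat.card Y := fun Y =>
      Subgroup.card_map_of_injective e.injective
    rwa [h2, h2]

section

variable {K : Type u} [Field K] [Fintype K] {q : ℕ} {φ : K →+* K}

theorem card_fixed_le (hq : 1 < q) : Nat.card {t : K // t ^ q = t} ≤ q := by
  classical
  rw [Nat.card_eq_fintype_card, Fintype.card_subtype]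
  have h1 : (Finset.univ.filter fun t : K => t ^ q = t) ⊆ (Polynomial.X ^ q - Polynomial.X : Polynomial K).roots.toFinset := by
    intro t ht
    rw [Finset.mem_filter] at ht
    rw [Multiset.mem_toFinset, Polynomial.mem_roots (FiniteField.X_pow_card_sub_X_ne_zero K hq)]
    simp [ht.2]
  calc _ ≤ _ := Finset.card_le_card h1
    _ ≤ _ := Multiset.toFinset_card_le _
    _ ≤ _ := Polynomial.card_roots' _
    _ = q := FiniteField.X_pow_card_sub_X_natDegree_eq K hq

theorem card_zero (hφ : ∀ x, φ x = x ^ q) (hq : 1 < q) : Nat.card (Nodes.RGDTwE6.X φ q (sr 0)) ≤ q := by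
  refine le_trans ?_ (card_fixed_le (K := K) hq)
  have key : ∀ g : Nodes.RGDTwE6.X φ q (sr 0), ∃ t : K, t ^ q = t ∧ ((g : ↥(twistedE6 K q)) : GL chevE6.Idx K) =
      TwE6Basic.x 46 t := by
    intro g
    have h1 : ((g : ↥(twistedE6 K q)) : GL chevE6.Idx K) ∈
        Nodes.RGDFold.R chevE6 Nodes.RGDTwE6.hp K Nodes.RGDTwE6.J (sg φ) (sr 0) := g.2
    rw [Nodes.RGDTwE6.R_pos] at h1
    obtain ⟨t, ht⟩ := rs_single (r := 46) (K := K) h1.1
    refine ⟨t, ?_, ht⟩
    have h2 := mem_fix.1 h1.2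
    rw [ht] at h2
    have h3 := sg_x_class φ (i := 0) (r := (46 : Fin 72)) (by decide +kernel) t
    have h4 : (TwE6Basic.rho (46 : Fin 72)).val = 46 := by decide +kernel
    rw [h4] at h3
    rw [← hφ]
    exact x_injective (r := 46) (by norm_num) (h3.symm.trans h2)
  refine Nat.card_le_card_of_injective (fun g => ⟨(key g).choose, (key g).choose_spec.1⟩) ?_
  intro g g' hg
  have h1 : (key g).choose = (key g').choose := congrArg Subtype.val hg
  apply Subtype.ext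
  apply Subtype.ext
  rw [(key g).choose_spec.2, (key g').choose_spec.2, h1]

theorem card_three (hφ : ∀ x, φ x = x ^ q) (hqq : ∀ t : K, (t ^ q) ^ q = t) :
    Nat.card K ≤ Nat.card (Nodes.RGDTwE6.X φ q (sr 3)) := by
  have hm : ∀ t : K, TwE6Basic.x 56 t * TwE6Basic.x 36 (t ^ q) ∈ twistedE6 K q := fun t =>
    pair_mem (q := q) t (rs := (56, 36)) (by simp)
  have hR : ∀ t : K, TwE6Basic.x 56 t * TwE6Basic.x 36 (t ^ q) ∈
      Nodes.RGDFold.R chevE6 Nodes.RGDTwE6.hp K Nodes.RGDTwE6.J (sg φ) (sr 3) := by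
    intro t
    rw [Nodes.RGDTwE6.R_pos]
    exact ⟨mul_mem (x_mem_rs (by decide +kernel) t) (x_mem_rs (by decide +kernel) _),
      twisted_le_fix φ hφ hqq (hm t)⟩
  refine Nat.card_le_card_of_injective
    (fun t => (⟨⟨_, hm t⟩, hR t⟩ : Nodes.RGDTwE6.X φ q (sr 3))) ?_
  intro t u h
  have h1 : TwE6Basic.x 56 t * TwE6Basic.x 36 (t ^ q) = TwE6Basic.x 56 u * TwE6Basic.x 36 (u ^ q) :=
    congrArg (fun z : Nodes.RGDTwE6.X φ q (sr 3) => ((z : ↥(twistedE6 K q)) : GL chevE6.Idx K)) h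
  exact (TwE6BN.pair3.x_pair_inj h1).1

end

/-- **`²E₆(q)`, `q` even.** -/
theorem ne_twE6 {K : Type u} [Field K] [Fintype K] [CharP K 2] {q : ℕ} (hq : IsPrimePow q)
    (hK : Fintype.card K = q ^ 2) : HasNe ↥(twistedE6 K q) := by
  have : Fact (Nat.Prime 2) := ⟨Nat.prime_two⟩
  obtain ⟨φ, hφ, hqq⟩ := exists_frob hq hK
  refine ⟨_, Nodes.RGDTwE6.isCartan, _, _, _,
    ⟨Nodes.RGDFold.finite_W (hp := Nodes.RGDTwE6.hp) CoxeterMatrix.F₄.toCoxeterSystem Nodes.RGDTwE6.isCartan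
      Nodes.RGDTwE6.foldData, Nodes.RGDTwE6.rgd _ hφ hqq 2, Nodes.RGDTwE6.G1_eq_top _ hφ hqq⟩, ?_⟩
  intro h
  have h1 := card_zero (K := K) hφ hq.one_lt
  have h2 := card_three hφ hqq
  rw [← h, Nat.card_eq_fintype_card, hK] at h2
  have h3 := hq.one_lt
  nlinarith [h2.trans h1]

end Cfsg.Agent.Omega.ML.Ex.Lie2.DatE6

end
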