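import Cfsg.Agent.Mrg.Omega.ML.Ex.Lie2.Main
import Cfsg.Agent.Mrg.Omega.ML.Ex.Lie2.WallT
import Cfsg.Agent.Mrg.Omega.ML.Ex.WallSemiB


/-!
# The Lie(2) row: the end node moves `m` (helper993, over helper221's `free_B`)

`X_last` acts simply transitively on the chambers `≠ c` of the last panel; `A` acts freely on the chambers `≠ y'` of a
panel of the last type, and fixes `y'`; so `|A|` is at most the number of the elements `u` of `X_last` with `u² = 1`.
-/

set_option autoImplicit false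
set_option linter.unusedSectionVars false

namespace Cfsg.Agent.Omega.ML.Ex.Lie2

open Subgroup CoxeterSystem Cfsg.Agent.ChevalleyStructure.CoxeterGeom Cfsg.Agent.Tits.Roots Cfsg.Agent.Tits.Core
  Cfsg.Agent.Tits.Core.Bldg
  Cfsg.Agent.Tits.RootComb Cfsg.Agent.Nodes.Comb Cfsg.Agent.Nodes.Reps Cfsg.Agent.Nodes.BNOf Cfsg.Agent.FixBN
  Cfsg.Agent.Omega.ML.LieRow Cfsg.Agent.Tits.OfBN Cfsg.Agent.LieExceptional.BNPairCore
open Cfsg.Agent.Omega.ML.Ex.Wall (cjs cjs_inv B_mem la_nd stab_ne_top le_stab)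

universe u v

section pan

variable {I : Type*} [Fintype I] [DecidableEq I] {W : Type*} [Group W] [Finite W] {M : CoxeterMatrix I}
  {cs : CoxeterSystem M W} {Ac : I → I → ℤ} {h : IsCartan M Ac}
  {K : Type*} [Group K] {W' : Type*} [Group W'] {cs' : CoxeterSystem M W'} {C : Type*} {Δ : Bldg cs' C}
  [MulAction K C] (S : Sys Δ K 2) {Tor : Subgroup K} {n : I → K} {X : (I → ℤ) → Subgroup K}
  [Cfsg.Agent.Tits.OppRes.Cox cs']

include S in
/-- an element of `X_i` which fixes `n i • c` is trivial -/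
theorem eq_one_of_pan (R : RGD cs h 2 Tor n X) {c : C} (hU : S.U c = RGD.Sup X (RGD.Pos cs h)) {i : I} {z : K}
    (hz : z ∈ X (sr i)) (h2 : z • (n i • c) = n i • c) : z = 1 := by
  have hXU : X (sr i) ≤ S.U c := by
    rw [hU]
    exact RGD.le_Sup (S := RGD.Pos cs h) ⟨isRoot_sr cs h i, sr_nonneg i⟩
  have h3 := S.mem_U_of_fix (hXU hz) h2
  have h4 : n i * ((n i)⁻¹ * z * n i) * (n i)⁻¹ ∈ S.U (n i • c) := by
    have e : n i * ((n i)⁻¹ * z * n i) * (n i)⁻¹ = z := by group
    rwa [e]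
  have h5 := S.conj_mem_U_iff.1 h4
  rw [hU] at h5
  have h6 : (n i)⁻¹ * z * n i ∈ X (-sr i) := by
    have := R.conj_mem' (rp_simple cs R.nsys i) (isRoot_sr cs h i) hz
    rwa [inv_simple, rep_simple_sr] at this
  have h7 := neg_inf R h6 h5
  have e : z = n i * ((n i)⁻¹ * z * n i) * (n i)⁻¹ := by group
  rw [e, h7, mul_one, mul_inv_cancel]

include S in
/-- `X_i` is transitive on the chambers `≠ c` of the panel -/
theorem exists_pan (R : RGD cs h 2 Tor n X) {c : C} (hU : S.U c = RGD.Sup X (RGD.Pos cs h))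
    (hn : ∀ i, Δ.δ c (n i • c) = cs'.simple i) {i : I} {y : C} (hy : Δ.δ c y = cs'.simple i) :
    ∃ x ∈ X (sr i), x • (n i • c) = y := by
  obtain ⟨u, hu, huy⟩ := S.exists_move ((hn i).trans hy.symm)
  rw [hU, R.Upos_eq i] at hu
  obtain ⟨x, hx, v, hv, rfl⟩ := exists_mul_of_mem_sup (R.X_le_normalizer_V i) hu
  refine ⟨x, hx, ?_⟩
  rw [← huy, mul_smul]
  congr 1
  -- `v` fixes `n i • c`
  have h1 : (n i)⁻¹ * v * n i ∈ RGD.Sup X (RGD.PosNe cs h i) := by
    have h2 := R.cj_n_V i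
    rw [← h2] at hv
    obtain ⟨w, hw, rfl⟩ := hv
    have e : (n i)⁻¹ * ((MulAut.conj (n i)).toMonoidHom w) * n i = w := by
      change (n i)⁻¹ * (n i * w * (n i)⁻¹) * n i = w
      group
    rw [e]
    exact hw
  have h2 : (n i)⁻¹ * v * n i ∈ S.U c := by
    rw [hU, R.Upos_eq i]
    exact (le_sup_right : _ ≤ X (sr i) ⊔ RGD.Sup X (RGD.PosNe cs h i)) h1
  have h3 := S.fix c _ h2
  have h4 : n i • (((n i)⁻¹ * v * n i) • c) = v • (n i • c) := by
    rw [← mul_smul, ← mul_smul]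
    congr 1
    group
  rw [← h4, h3]

include S in
/-- **The count.** A subgroup of exponent two of `U c`, which fixes `y'` and acts freely on the chambers `≠ y'` of the
panel of type `i`, has at most `inv2 (X_i)` elements. -/
theorem card_le_inv2 [Finite K] (hth : Δ.Thick) [IsSimpleGroup K] (R : RGD cs h 2 Tor n X) {c c' : C}
    (hU : S.U c = RGD.Sup X (RGD.Pos cs h))
    (hn : ∀ i, Δ.δ c (n i • c) = cs'.simple i) {i : I} {B : Subgroup K} (hB : B ≤ S.U c') (hB2 : ∀ b ∈ B, b * b = 1)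
    {y' : C} (hy : ∀ b ∈ B, b • y' = y') (hfree : ∀ b ∈ B, ∀ z, Δ.δ y' z = cs'.simple i → b • z = z → b = 1) :
    Nat.card B ≤ inv2 (X (sr i)) := by
  have : Nonempty I := ⟨i⟩
  have : Nonempty C := ⟨c⟩
  obtain ⟨k, hk⟩ := exists_smul_top S hth c y'
  have key : ∀ b : B, ∃ a : K, a ∈ X (sr i) ∧ a * a = 1 ∧ a • (n i • c) = (k⁻¹ * (b : K) * k) • (n i • c) := by
    rintro ⟨b, hb⟩
    have h1 : b ∈ S.U y' := S.mem_U_of_fix (hB hb) (hy b hb)
    have h2 : k⁻¹ * b * k ∈ S.U c := by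
      rw [← hk] at h1
      have e : k * (k⁻¹ * b * k) * k⁻¹ = b := by group
      rw [← e] at h1
      exact S.conj_mem_U_iff.1 h1
    set β : K := k⁻¹ * b * k with hβ
    have hββ : β * β = 1 := by
      rw [hβ]
      calc k⁻¹ * b * k * (k⁻¹ * b * k) = k⁻¹ * (b * b) * k := by group
        _ = 1 := by rw [hB2 b hb]; group
    have h3 : Δ.δ c (β • (n i • c)) = cs'.simple i := by
      have h4 := S.iso β c (n i • c)
      rw [S.fix c β h2, hn] at h4
      exact h4
    obtain ⟨a, ha, hab⟩ := exists_pan S R hU hn h3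
    have haU : a ∈ S.U c := by
      rw [hU]
      exact RGD.le_Sup (S := RGD.Pos cs h) ⟨isRoot_sr cs h i, sr_nonneg i⟩ ha
    refine ⟨a, ha, ?_, hab⟩
    have h5 : a⁻¹ * β ∈ S.U c := mul_mem (inv_mem haU) h2
    have h6 : (a⁻¹ * β) • (n i • c) = n i • c := by
      rw [mul_smul, ← hab, inv_smul_smul]
    have h7 : (a⁻¹ * β) • (β • (n i • c)) = β • (n i • c) :=
      S.pan c (n i • c) i (hn i) _ h5 h6 _ (Or.inr h3)
    have h8 : (a * a) • (n i • c) = n i • c := by
      rw [mul_smul, hab]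
      have h9 : a⁻¹ • (n i • c) = β • (n i • c) := by
        have h10 : (a⁻¹ * β) • (β • (n i • c)) = a⁻¹ • (n i • c) := by
          rw [mul_smul, smul_smul β β, hββ, one_smul]
        rw [← h10, h7]
      rw [← h9, smul_inv_smul]
    exact eq_one_of_pan S R hU (mul_mem ha ha) h8
  refine Nat.card_le_card_of_injective
    (fun b => (⟨(key b).choose, (key b).choose_spec.1, (key b).choose_spec.2.1⟩ :
      {u : K // u ∈ X (sr i) ∧ u * u = 1})) ?_
  intro b b' hbb
  have h1 : (key b).choose = (key b').choose :=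
    congrArg (fun z : {u : K // u ∈ X (sr i) ∧ u * u = 1} => (z : K)) hbb
  have h2 := (key b).choose_spec.2.2
  have h3 := (key b').choose_spec.2.2
  rw [h1, h3] at h2
  have h4 : ((b : K)⁻¹ * (b' : K)) • (k • (n i • c)) = k • (n i • c) := by
    have h5 : (k⁻¹ * (b' : K) * k) • (n i • c) = (k⁻¹ * (b : K) * k) • (n i • c) := h2
    have h6 : ∀ b : K, k • ((k⁻¹ * b * k) • (n i • c)) = b • (k • (n i • c)) := by
      intro b
      generalize n i • c = z
      rw [smul_smul, smul_smul]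
      congr 1
      group
    rw [mul_smul, ← h6 (b' : K), h5, h6, inv_smul_smul]
  have h5 : (b : K)⁻¹ * (b' : K) = 1 := by
    refine hfree _ (mul_mem (inv_mem b.2) b'.2) _ ?_ h4
    rw [← hk, S.iso, hn]
  exact Subtype.ext (inv_mul_eq_one.1 h5)

end pan

/-- **The end node of `B_l` moves `m`.** -/
theorem fiveP : FiveI.{u, v} := by
  intro X _ _ M _ _ _ K T B m l Ac h Tor n Xr hl hI hL hR hi2 hJ
  have hKn := hI.norm
  have hKs := hI.simple
  have hfin : Finite (CoxeterMatrix.B l).Group := hR.fin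
  have hne : Nonempty (Fin l) := ⟨⟨0, by omega⟩⟩
  obtain ⟨F, hF⟩ := frameN hKn hR.rgd hR.gen
  obtain ⟨W, gW, cs, C, act, Δ, S, A, hth, hfC, hnC, hfW⟩ := F
  obtain ⟨c, hU, hn, htp⟩ := hF
  change S.U c = _ at hU
  change ∀ i, Δ.δ c (n i • c) = cs.simple i at hn
  change ∀ P : Subgroup K, _ → ∀ i, i ∈ tp Δ P c ↔ _ at htp
  have hUT : S.U c = T.subgroupOf K := hU.trans hR.syl
  have hc : ∀ t ∈ T, A.θ t c = c := by
    obtain ⟨c', hc', hUc'⟩ := exists_chamber A S hth hI.two hI.syl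
    have h3 : c' = c := UGT.U2.FOne.U_inj S hth (hUc'.trans hUT.symm)
    rw [← h3]
    exact hc'
  have hJm : tp Δ ((MulAction.stabilizer X m).subgroupOf K) c = Jm Xr m := by
    ext i
    rw [htp _ ?_ i]
    · exact Iff.rfl
    · rw [hR.syl]
      exact fun x hx => hL.fix x hx
  have htr := Wall.not_trans_of_nmax A S hth hc hUT hI.gen hI.nmax
  have hLL : ∀ L : Set (Fin l), L ≠ Set.univ → A.Inv L := by
    intro L _
    refine inv_of_T A S hI.gen fun t ht i hi => ?_
    have hid : A.σ t i = i := by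
      rcases Nat.lt_or_ge l 3 with h3 | h3
      · obtain rfl : l = 2 := by omega
        by_contra hti
        apply htr
        have hinj : ∀ a b, A.σ t a = A.σ t b → a = b := fun a b hab => by
          have h4 := congrArg (A.σ t⁻¹) hab
          rwa [A.σ_inv_σ, A.σ_inv_σ] at h4
        have h2 : ∀ a b c : Fin 2, a ≠ b → c ≠ b → a = c := by decide
        intro a b
        rcases eq_or_ne a b with rfl | hab
        · exact ⟨1, one_mem _, A.σ_one a⟩
        · refine ⟨t, ht, ?_⟩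
          by_contra hcon
          have h5 : A.σ t a = a := h2 _ b _ hcon hab
          rcases eq_or_ne a i with rfl | hai
          · exact hti h5
          · have h6 : A.σ t i = a := h2 _ i _ hti hai
            exact hai (hinj _ _ (h5.trans h6.symm))
      · exact WallSig.sigB h3 (WallSig.sig_M A t) i
    rw [hid]
    exact hi
  have hC := Wall.cen_one A S hI
  have hTD : T ≤ MulAction.stabilizer X m := le_stab hL
  have hBo : B ≤ ZN.o2 (MulAction.stabilizer X m) := hI.low _ hTD (stab_ne_top hI hL.ne)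
  obtain ⟨y', hy, hfree⟩ := WallSemi.free_B A S hth hC hI.two hI.syl hI.gen hc hUT (FF := cjs X B) cjs_inv hl hLL hTD
    (hJm.trans hJ) (la_nd hL) B_mem hBo
  -- `B` is in `U c`
  have hBU : ∀ b ∈ B, ∃ u ∈ S.U c, (u : X) = b := fun b hb =>
    Wall.low_mem A S hth hC (Wall.low_of_o2 A S hth hI.two hI.syl hI.gen htr hc fun R hTR hR => hI.low R hTR hR hb)
  have hBK : B ≤ K := fun b hb => by
    obtain ⟨u, -, rfl⟩ := hBU b hb
    exact u.2
  have h1 : Nat.card (B.subgroupOf K) ≤ inv2 (Xr (sr ⟨l - 1, by omega⟩)) := by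
    refine card_le_inv2 (c' := c) S hth hR.rgd hU hn (fun b hb => ?_) (fun b hb => ?_) (y' := y') (fun b hb => ?_)
      fun b hb z hz hbz => ?_
    · obtain ⟨u, hu, hub⟩ := hBU b hb
      rwa [← Subtype.ext hub]
    · exact Subtype.ext (hI.el _ hb)
    · have h2 : A.θ (b : X) y' = y' := hy _ hb
      rwa [A.θ_K] at h2
    · have h2 : (b : X) = 1 := hfree _ hb z hz (by
        change A.θ (b : X) z = z
        rw [A.θ_K]
        exact hbz)
      exact Subtype.ext h2
  have h2 : Nat.card (B.subgroupOf K) = Nat.card B := Nat.card_congr (subgroupOfEquivOfLe hBK).toEquiv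
  have h3 := hi2 ⟨l - 1, by omega⟩ (by simp only; omega)
  have h4 := hI.four
  omega

end Cfsg.Agent.Omega.ML.Ex.Lie2
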