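import Cfsg.Agent.Mrg.Omega.ML.RowTits
import Cfsg.Agent.Mrg.KFacts.RgdPerf


/-!
# The Lie(2) row with the W-part: `U ≤ ⁅P, P⁆` (829's (C) in RGD form; helper993)

`P ≥ U` contains `X (-sr j)`, `j ∈ J`.  If the non-simple positive root groups are in `⁅U, U⁆` (`CommGen`) and every
node `i` has a neighbour in `J`, or is in `J` and `X_i ≤ ⁅L_i, L_i⁆`, then `U ≤ ⁅P, P⁆`.

* `exists_refl` : `P` contains an element `t n_j`, `t ∈ T`, for `j ∈ J`;
* `le_comm_of_adj` : one node with a neighbour in `J`;  `le_comm` : the theorem.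
-/

set_option autoImplicit false
set_option linter.unusedSectionVars false

namespace Cfsg.Agent.Omega.ML.Ex.Lie2

open Subgroup CoxeterSystem Cfsg.Agent.ChevalleyStructure.CoxeterGeom Cfsg.Agent.Tits.Roots Cfsg.Agent.Tits.Core
  Cfsg.Agent.Tits.Exchange Cfsg.Agent.Nodes.Reps Cfsg.Agent.Nodes.BNOf Cfsg.Agent.Nodes.StabComb
  Cfsg.Agent.Nodes.Bruhat Cfsg.Agent.Omega.EH3.Kf.Lev
open scoped commutatorElement

variable {I W Y : Type*} [Fintype I] [DecidableEq I] [Group W] [Group Y] {M : CoxeterMatrix I}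
  {cs : CoxeterSystem M W} {A : I → I → ℤ} {h : IsCartan M A} {p : ℕ} {T : Subgroup Y} {n : I → Y}
  {X : (I → ℤ) → Subgroup Y}

/-- the group of the node `i` -/
def Li (X : (I → ℤ) → Subgroup Y) (i : I) : Subgroup Y := X (sr i) ⊔ X (-sr i)

variable (R : RGD cs h p T n X)

include R

/-- `P` contains `t n_j`, `t ∈ T`, if `X_j, X_{-j} ≤ P` -/
theorem exists_refl {P : Subgroup Y} {j : I} (h1 : X (sr j) ≤ P) (h2 : X (-sr j) ≤ P) :
    ∃ g ∈ P, Rp cs R.nsys (cs.simple j) g := by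
  obtain ⟨u, hu, hu1⟩ := exists_ne_one R j
  have h3 : n j * u * (n j)⁻¹ ∈ X (-sr j) := by
    have := R.conj_mem (rp_simple cs R.nsys j) (isRoot_sr cs h j) hu
    rwa [rep_simple_sr] at this
  have h4 : n j * u * (n j)⁻¹ ≠ 1 := fun h3 => hu1 (mul_eq_left.1 (mul_inv_eq_one.1 h3))
  obtain ⟨a, ha, t, ht, b, hb, e⟩ := R.rk1 j _ h3 h4
  refine ⟨t * n j, ?_, ?_⟩
  · have h5 : t * n j = a⁻¹ * (n j * u * (n j)⁻¹) * b⁻¹ := by
      conv_rhs => rw [e]
      group
    rw [h5]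
    exact mul_mem (mul_mem (inv_mem (h1 ha)) (h2 h3)) (inv_mem (h1 hb))
  · have := (rp_of_mem (cs := cs) (hN := R.nsys) ht).mul (rp_simple cs R.nsys j)
    rwa [one_mul] at this

/-- a positive root `s_j a_i` is not simple if `i`, `j` are joined -/
theorem refl_not_simple {i j : I} (hij : i ≠ j) (hM : M i j ≠ 2) :
    0 ≤ rep cs h (cs.simple j) (sr i) ∧ ∀ k, rep cs h (cs.simple j) (sr i) ≠ sr k := by
  have hA : A j i < 0 := by
    rcases h.rel j i hij.symm with ⟨h1, -⟩ | ⟨-, h1, -⟩ | ⟨-, ⟨h1, -⟩ | ⟨h1, -⟩⟩ | ⟨-, ⟨h1, -⟩ | ⟨h1, -⟩⟩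
    · rw [M.symmetric] at h1
      exact absurd h1 hM
    all_goals omega
  have hp : pairing A j (sr i) = A j i := by
    unfold pairing
    rw [Finset.sum_eq_single i]
    · simp [sr]
    · intro k _ hk
      simp [sr, hk]
    · intro hk
      exact absurd (Finset.mem_univ i) hk
  have e := rep_simple_eq cs h j (sr i)
  rw [hp] at e
  constructor
  · rw [e]
    intro k
    by_cases hk : k = j
    · subst hk
      simp [sr, hij.symm]
      omega
    · have h5 := sr_nonneg i k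
      simpa [sr, hk] using h5
  · intro k hk
    have h1 := congrFun (e.symm.trans hk) i
    have h2 := congrFun (e.symm.trans hk) j
    by_cases hki : k = i
    · subst hki
      simp [sr, hij.symm] at h2
      omega
    · simp [sr, hij, Ne.symm hki] at h1

/-- **A node with a neighbour in `J`.** -/
theorem le_comm_of_adj (hc : CommGen cs h X) {P : Subgroup Y} (hU : RGD.Sup X (RGD.Pos cs h) ≤ P) {i j : I}
    (hij : i ≠ j) (hM : M i j ≠ 2) (hj : X (-sr j) ≤ P) : X (sr i) ≤ ⁅P, P⁆ := by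
  obtain ⟨g, hg, hR⟩ := exists_refl R (P := P) (le_trans (RGD.le_Sup (S := RGD.Pos cs h)
    ⟨isRoot_sr cs h j, sr_nonneg j⟩) hU) hj
  obtain ⟨h0, h1⟩ := refl_not_simple R hij hM
  intro x hx
  have h2 : g * x * g⁻¹ ∈ ⁅P, P⁆ :=
    Subgroup.commutator_mono hU hU (hc _ ((isRoot_sr cs h i).act _) h0 h1 (R.conj_mem hR (isRoot_sr cs h i) hx))
  have h3 : P ≤ normalizer ((⁅P, P⁆ : Subgroup Y) : Set Y) := by
    intro y hy
    rw [mem_normalizer_iff]
    have key : ∀ y ∈ P, ∀ z ∈ ⁅P, P⁆, y * z * y⁻¹ ∈ ⁅P, P⁆ := by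
      intro y hy z hz
      have hle : ⁅P, P⁆ ≤ P := Subgroup.commutator_le.2 fun a ha b hb => by
        rw [commutatorElement_def]
        exact mul_mem (mul_mem (mul_mem ha hb) (inv_mem ha)) (inv_mem hb)
      have h4 : y * z * y⁻¹ = ⁅y, z⁆ * z := by rw [commutatorElement_def]; group
      rw [h4]
      exact mul_mem (Subgroup.commutator_mem_commutator hy (hle hz)) hz
    intro z
    refine ⟨key y hy z, fun hz => ?_⟩
    have := key y⁻¹ (inv_mem hy) _ hz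
    rwa [inv_inv, ← mul_assoc, ← mul_assoc, inv_mul_cancel, one_mul, mul_assoc, inv_mul_cancel, mul_one] at this
  have h4 := (mem_normalizer_iff''.1 (h3 hg) (g * x * g⁻¹)).1 h2
  have e : g⁻¹ * (g * x * g⁻¹) * g = x := by group
  rwa [e] at h4

/-- **829's (C).** -/
theorem le_comm (hc : CommGen cs h X) {P : Subgroup Y} (hU : RGD.Sup X (RGD.Pos cs h) ≤ P) {J : Set I}
    (hJ : ∀ j ∈ J, X (-sr j) ≤ P)
    (hadj : ∀ i, (∃ j ∈ J, i ≠ j ∧ M i j ≠ 2) ∨ (i ∈ J ∧ X (sr i) ≤ ⁅Li X i, Li X i⁆)) :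
    RGD.Sup X (RGD.Pos cs h) ≤ ⁅P, P⁆ := by
  refine RGD.Sup_le fun r hr => ?_
  by_cases hs : ∃ i, r = sr i
  · obtain ⟨i, rfl⟩ := hs
    rcases hadj i with ⟨j, hj, hij, hM⟩ | ⟨hi, h1⟩
    · exact le_comm_of_adj R hc hU hij hM (hJ j hj)
    · have h2 : Li X i ≤ P := sup_le (le_trans (RGD.le_Sup (S := RGD.Pos cs h) hr) hU) (hJ i hi)
      exact h1.trans (Subgroup.commutator_mono h2 h2)
  · push Not at hs
    exact (hc r hr.1 hr.2 hs).trans (Subgroup.commutator_mono hU hU)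

end Cfsg.Agent.Omega.ML.Ex.Lie2
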